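import Cfsg.Agent.OrdDiv.Main
import Cfsg.Agent.H379.J2Spec
import Cfsg.Agent.H320.O8.Facts

/-!
# Element orders of three simple groups given by their order (helper788, for `PΩ⁺_8(3)`, S3502)

* `no_nine` : `|S| = 604800` (`J₂`), no elements of order 9
* `has_21` : `|S| = 1814400` (`A₁₀`), there is an element of order 21
* `no_14` : `|S| = 174182400` (`Ω⁺_8(2)`), no elements of order 14
-/

set_option autoImplicit false

namespace Cfsg.Agent.H788.Der.C

open Cfsg Subgroup Cfsg.Agent.OrdDiv

variable {S : Type} [Group S] [Finite S] [IsSimpleGroup S]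

omit [Finite S] in
theorem not_comm {N : ℕ} (hc : Nat.card S = N) (hN : ¬ N.Prime) : ¬ ∀ a b : S, a * b = b * a := by
  intro h
  letI : CommGroup S := { (inferInstance : Group S) with mul_comm := h }
  apply hN
  rw [← hc]
  exact IsSimpleGroup.prime_card (α := S)

/-- `J₂` -/
theorem no_nine (OT : OrderTable.{0}) (hS : ∀ (X : Type) [Group X] [Finite X] [IsSimpleGroup X], IsKnownSimple' X)
    (hc : Nat.card S = 604800) (x : S) : orderOf x ≠ 9 := by
  obtain ⟨g, hg, hreal⟩ := exists_real_filter OT (S := S) (hS S) (not_comm hc (by norm_num))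
    (l := [(2, 7), (3, 3), (5, 2), (7, 1)]) (N := 604800) (by decide +kernel) (by rw [hc])
    (fun o => o == 604800) (by rw [hc]; rfl)
  have hj : ((cands [(2, 7), (3, 3), (5, 2), (7, 1)] 604800).filter fun g => ordN g == 604800).all
      (fun g => match g with
        | .j2 => true
        | _ => false) = true := by decide +kernel
  rw [List.all_eq_true] at hj
  have hj' := hj g hg
  cases g with
  | j2 =>
    obtain ⟨e⟩ := hreal
    intro hx
    have h1 : orderOf (e x) ∈ Set.range (orderOf : Spor.J2 → ℕ) := ⟨e x, rfl⟩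
    rw [Cfsg.Agent.H379.J2Spec.range_J2, MulEquiv.orderOf_eq, hx] at h1
    simp at h1
  | _ => exact absurd hj' Bool.false_ne_true

/-- an even permutation of order 21 -/
theorem exists_21 : ∃ x : alternatingGroup (Fin 10), orderOf x = 21 := by
  let c : Equiv.Perm (Fin 10) := List.formPerm [0, 1, 2, 3, 4, 5, 6] * List.formPerm [7, 8, 9]
  have hc : c ∈ alternatingGroup (Fin 10) := Equiv.Perm.mem_alternatingGroup.2 (by decide)
  refine ⟨⟨c, hc⟩, ?_⟩
  rw [Subgroup.orderOf_mk]
  have h21 : c ^ 21 = 1 := by decide +kernel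
  have h3 : c ^ 3 ≠ 1 := by decide +kernel
  have h7 : c ^ 7 ≠ 1 := by decide +kernel
  have h1 := orderOf_dvd_of_pow_eq_one h21
  have h2 : orderOf c ≤ 21 := Nat.le_of_dvd (by norm_num) h1
  have h4 : ¬ orderOf c ∣ 3 := fun h => h3 (orderOf_dvd_iff_pow_eq_one.1 h)
  have h5 : ¬ orderOf c ∣ 7 := fun h => h7 (orderOf_dvd_iff_pow_eq_one.1 h)
  generalize orderOf c = n at *
  interval_cases n <;> first | rfl | (exfalso; omega)

/-- `A₁₀` -/
theorem has_21 (OT : OrderTable.{0}) (hS : ∀ (X : Type) [Group X] [Finite X] [IsSimpleGroup X], IsKnownSimple' X)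
    (hc : Nat.card S = 1814400) : ∃ x : S, orderOf x = 21 := by
  obtain ⟨g, hg, hreal⟩ := exists_real_filter OT (S := S) (hS S) (not_comm hc (by norm_num))
    (l := [(2, 7), (3, 4), (5, 2), (7, 1)]) (N := 1814400) (by decide +kernel) (by rw [hc])
    (fun o => o == 1814400) (by rw [hc]; rfl)
  have hj : ((cands [(2, 7), (3, 4), (5, 2), (7, 1)] 1814400).filter fun g => ordN g == 1814400).all
      (fun g => match g with
        | .alt n => n == 10
        | _ => false) = true := by decide +kernel
  rw [List.all_eq_true] at hj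
  have hj' := hj g hg
  cases g with
  | alt n =>
    have hn : n = 10 := by
      have : (n == 10) = true := hj'
      exact beq_iff_eq.1 this
    subst hn
    obtain ⟨e⟩ := hreal
    obtain ⟨x, hx⟩ := exists_21
    exact ⟨e.symm x, by rw [MulEquiv.orderOf_eq, hx]⟩
  | _ => exact absurd hj' Bool.false_ne_true

/-- `Ω⁺_8(2)` -/
theorem no_14 (OT : OrderTable.{0}) (hS : ∀ (X : Type) [Group X] [Finite X] [IsSimpleGroup X], IsKnownSimple' X)
    (hc : Nat.card S = 174182400) (x : S) : orderOf x ≠ 14 := by
  obtain ⟨g, hg, hreal⟩ := exists_real_filter OT (S := S) (hS S) (not_comm hc (by norm_num))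
    (l := [(2, 12), (3, 5), (5, 2), (7, 1)]) (N := 174182400) (by decide +kernel) (by rw [hc])
    (fun o => o == 174182400) (by rw [hc]; rfl)
  have hj : ((cands [(2, 12), (3, 5), (5, 2), (7, 1)] 174182400).filter fun g => ordN g == 174182400).all
      (fun g => match g with
        | .oplus m q => m == 4 && q == 2
        | _ => false) = true := by decide +kernel
  rw [List.all_eq_true] at hj
  have hj' := hj g hg
  cases g with
  | oplus m q =>
    have hmq : (m == 4 && q == 2) = true := hj'
    rw [Bool.and_eq_true, beq_iff_eq, beq_iff_eq] at hmq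
    obtain ⟨rfl, rfl⟩ := hmq
    obtain ⟨F, _, _, hF, ⟨e⟩⟩ := hreal
    have hf := Cfsg.Agent.H320.O8.fct_T hF
    intro hz
    have h1 : orderOf ((e x) ^ 2) = 7 := by
      rw [orderOf_pow_of_dvd (by norm_num) (by rw [MulEquiv.orderOf_eq, hz]; norm_num), MulEquiv.orderOf_eq, hz]
    have h2 := hf.c7 _ h1
    have h3 : e x ∈ centralizer ({(e x) ^ 2} : Set _) :=
      mem_centralizer_singleton_iff.2 ((Commute.refl _).pow_right 2).eq
    have h4 := Subgroup.orderOf_dvd_natCard _ h3
    rw [h2, MulEquiv.orderOf_eq, hz] at h4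
    norm_num at h4
  | _ => exact absurd hj' Bool.false_ne_true

end Cfsg.Agent.H788.Der.C
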