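import Cfsg.Agent.H788.Der.DTwoLin

/-!
# Elements of order 3 and 7 of the group `Gam ≅ ³D₄(2)` (helper788)

* `nineG` : no group of order 9 normalises a group of order 7;
* `dtG` : the element `wd y7W` of order 7 commutes with no element of order 2 or 3;
* `exp7G`, `e9G`.
-/

set_option autoImplicit false
set_option maxRecDepth 100000

namespace Cfsg.Agent.H788.Der.DTwo

open Cfsg.Agent.TypeD4Two Cfsg.Agent.H831.DCode Cfsg.Agent.H831.DGrp Cfsg.Agent.H831.DDick
  Cfsg.Agent.H831.DFix Cfsg.Agent.H831.DWord Cfsg.Agent.H831.DDiag Cfsg.Agent.H831.DSyl Cfsg.Agent.H831.DFact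
  Cfsg.Agent.H831.DJord Cfsg.Agent.H831.DSpec Module

theorem trace_diag (b : Basis (Fin 8) F8 V) {x : GG} {lam : Fin 8 → F8} (hx : ∀ k, le x (b k) = lam k • b k) :
    LinearMap.trace F8 V (fe x) = ∑ k, lam k := by
  rw [LinearMap.trace_eq_matrix_trace F8 b, Matrix.trace]
  refine Finset.sum_congr rfl fun k _ => ?_
  rw [Matrix.diag_apply, LinearMap.toMatrix_apply]
  have h1 : fe x (b k) = lam k • b k := hx k
  rw [h1, map_smul, Finsupp.smul_apply, Basis.repr_self, Finsupp.single_eq_same, smul_eq_mul, mul_one]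

theorem trace_conj (g x : GG) : LinearMap.trace F8 V (fe (g * x * g⁻¹)) = LinearMap.trace F8 V (fe x) := by
  rw [fe_mul, LinearMap.trace_mul_comm, ← fe_mul]
  congr 2
  group

theorem nf7 {x : GG} (hx : x ∈ Subgroup.closure ({gd, wd y7W, 1} : Set GG)) :
    ∃ i < 7, ∃ j < 7, x = gd ^ i * wd y7W ^ j := by
  have h1 : x ∈ LS L7 := by
    rw [← closure_eq cd_d cd_y7 cd_one grid7]; exact hx
  obtain ⟨idx, hidx, hxe⟩ := nf_of_mem cd_d cd_y7 cd_one grid7 h1
  rw [one_pow, mul_one, Nat.div_one] at hxe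
  exact ⟨idx / 7, by omega, idx % 7, by omega, hxe⟩

theorem conj7 {x : GG} (hx : x ∈ Gam) (ho : orderOf x = 7) : ∃ g ∈ Gam, ∃ i < 7, ∃ j < 7,
    g * x * g⁻¹ = gd ^ i * wd y7W ^ j := by
  obtain ⟨g, hgG, hg⟩ := conj_mem (p := 7) (k := 2) (le_gam (lw_mem 0) (wd_mem y7W) (Subgroup.one_mem _))
    (by rw [show lw 0 = gd from rfl, card_closure cd_d cd_y7 cd_one grid7]; norm_num) (by intro m hm; omega) hx
    (j := 1) (by rw [pow_one, ← ho]; exact pow_orderOf_eq_one x)
  exact ⟨g, hgG, nf7 hg⟩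

theorem gam_fin : Finite Gam := Nat.finite_of_card_ne_zero (by rw [card_gam]; norm_num)

theorem num7 : ∀ t < 7, t * t * t % 7 = 1 → t = 1 ∨ t = 2 ∨ t = 4 := by decide

/-- **no group of order 9 normalises a group of order 7** -/
theorem nine_aux {i j : ℕ} (hi : i < 7) (hj : j < 7) {x : GG} (hxe : x = gd ^ i * wd y7W ^ j) (hx : x ∈ Gam)
    (ho : orderOf x = 7) {Q : Subgroup GG} (hQ : Q ≤ Gam) (hQc : Nat.card Q = 9)
    (hn : ∀ q ∈ Q, q * x * q⁻¹ ∈ Subgroup.zpowers x) : False := by
  classical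
  have i3 : Fact (Nat.Prime 3) := ⟨Nat.prime_three⟩
  have hQfin : Finite Q := Nat.finite_of_card_ne_zero (by rw [hQc]; norm_num)
  have hx1 : x ≠ 1 := by
    rintro h
    rw [h, orderOf_one] at ho
    norm_num at ho
  have hx7 : x ^ 7 ^ 1 = 1 := by rw [pow_one, ← ho]; exact pow_orderOf_eq_one x
  have hq9 : ∀ q ∈ Q, q ^ 3 ^ 2 = 1 := by
    intro q hq
    have h1 : (⟨q, hq⟩ : Q) ^ Nat.card Q = 1 := pow_card_eq_one'
    rw [hQc] at h1
    exact congrArg Subtype.val h1
  -- exponents
  have hex : ∀ q ∈ Q, ∃ a : ℕ, q * x * q⁻¹ = x ^ a := by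
    intro q hq
    obtain ⟨a, ha⟩ := (mem_powers_iff_mem_zpowers).2 (hn q hq)
    exact ⟨a, ha.symm⟩
  have hZ : Finite (Subgroup.zpowers x) := Nat.finite_of_card_ne_zero (by rw [Nat.card_zpowers, ho]; norm_num)
  have hQN : Q ≤ Subgroup.normalizer (Subgroup.zpowers x : Set GG) := by
    intro q hq
    rw [Subgroup.mem_normalizer_iff]
    have h1 : ∀ q ∈ Q, ∀ y ∈ Subgroup.zpowers x, q * y * q⁻¹ ∈ Subgroup.zpowers x := by
      intro q hq y hy
      obtain ⟨n, rfl⟩ := Subgroup.mem_zpowers_iff.1 hy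
      rw [← conj_zpow]
      exact Subgroup.zpow_mem _ (hn q hq) n
    intro y
    constructor
    · exact h1 q hq y
    · intro hy
      have h2 := h1 q⁻¹ (Q.inv_mem hq) _ hy
      have e : q⁻¹ * (q * y * q⁻¹) * q⁻¹⁻¹ = y := by group
      rwa [e] at h2
  let f : Q →* MulAut (Subgroup.zpowers x) :=
    ((Subgroup.zpowers x).normalizerMonoidHom).comp (Subgroup.inclusion hQN)
  have hf : ∀ q : Q, f q = 1 → (q : GG) * x = x * q := by
    intro q h
    have h4 : f q (⟨x, Subgroup.mem_zpowers x⟩ : Subgroup.zpowers x) = ⟨x, Subgroup.mem_zpowers x⟩ := by rw [h]; rfl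
    have h5 : (q : GG) * x * (q : GG)⁻¹ = x := congrArg Subtype.val h4
    exact mul_inv_eq_iff_eq_mul.1 h5
  have hr1 : Nat.card f.range ∣ 6 := by
    have h1 := Subgroup.card_subgroup_dvd_card f.range
    rw [IsCyclic.card_mulAut, Nat.card_zpowers, ho] at h1
    exact h1
  have hr2 : Nat.card f.range ∣ 9 := by
    rw [← hQc]
    exact Subgroup.card_range_dvd f
  have hr3 : Nat.card f.range ∣ 3 := by
    have := Nat.dvd_gcd hr1 hr2
    exact this
  have hk3 : 3 ∣ Nat.card f.ker := by
    have h1 := f.ker.card_mul_index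
    rw [Subgroup.index_ker, hQc] at h1
    rcases (Nat.dvd_prime Nat.prime_three).1 hr3 with h | h
    · rw [h] at h1
      exact ⟨3, by omega⟩
    · rw [h] at h1
      exact ⟨1, by omega⟩
  have hl : ∀ k, le x (colB PG k) = ev i j k • colB PG k := fun k => by rw [hxe]; exact eig_dy i j k
  rcases (fact7 hx hx7 hx1).2 with hD0 | ⟨-, hD⟩
  · -- no fixed vectors
    have hne : Fintype.card {k : Fin 8 // ev i j k = 1} = 0 := by
      by_contra hne
      obtain ⟨⟨k, hk⟩⟩ : Nonempty {k : Fin 8 // ev i j k = 1} := by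
        rw [← Fintype.card_pos_iff]; omega
      have h1 : colB PG k ∈ fix (le x) := by
        rw [mem_fix', hl, hk, one_smul]
      have h2 : fix (le x) = ⊥ := Submodule.finrank_eq_zero.1 hD0
      rw [h2, Submodule.mem_bot] at h1
      exact (colB PG).ne_zero k h1
    have hij : ¬ (i = 0 ∧ j = 0) := by
      rintro ⟨rfl, rfl⟩
      exact hx1 (by rw [hxe, pow_zero, pow_zero, mul_one])
    rcases chkB i hi j hj with h | h | ⟨h4, ht2, ht4⟩
    · exact hij h
    · exact h hne
    -- `Q` centralises `x`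
    have hcen : ∀ q ∈ Q, x * q = q * x := by
      intro q hq
      obtain ⟨a, ha⟩ := hex q hq
      have h1 : f (⟨q, hq⟩ ^ 3) = 1 := by
        rw [map_pow]
        obtain ⟨s, hs⟩ := hr3
        have h2 : (⟨f ⟨q, hq⟩, ⟨⟨q, hq⟩, rfl⟩⟩ : f.range) ^ Nat.card f.range = 1 := pow_card_eq_one'
        have h3 : (f ⟨q, hq⟩) ^ Nat.card f.range = 1 := congrArg Subtype.val h2
        rw [hs, pow_mul, h3, one_pow]
      have h2 := hf _ h1
      have h3 : q ^ 3 * x * (q ^ 3)⁻¹ = x := mul_inv_eq_iff_eq_mul.2 h2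
      have h4' : q ^ 3 * x * (q ^ 3)⁻¹ = x ^ (a * a * a) := by
        have e1 : q ^ 3 * x * (q ^ 3)⁻¹ = q * (q * (q * x * q⁻¹) * q⁻¹) * q⁻¹ := by
          rw [pow_succ, pow_two]; group
        rw [e1, ha, ← conj_pow, ha, ← conj_pow, ← conj_pow, ha, ← pow_mul, ← pow_mul]
        congr 1
        ring
      rw [h3] at h4'
      have h5 : 1 ≡ a * a * a [MOD 7] := by
        rw [← ho, ← pow_eq_pow_iff_modEq, pow_one]
        exact h4'
      have h6 : x ^ a = x ^ (a % 7) := by
        rw [← ho, pow_mod_orderOf]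
      rw [h6] at ha
      have h7 : a % 7 = 1 ∨ a % 7 = 2 ∨ a % 7 = 4 := by
        have h8 : (a % 7) * (a % 7) * (a % 7) % 7 = 1 := by
          have h9 : (a * a * a) % 7 = 1 := h5.symm
          rw [← h9]
          exact ((Nat.mod_modEq a 7).mul (Nat.mod_modEq a 7)).mul (Nat.mod_modEq a 7)
        exact num7 _ (Nat.mod_lt _ (by norm_num)) h8
      have htr := trace_conj q x
      have htr1 := trace_diag (colB PG) hl
      rcases h7 with h7 | h7 | h7
      · rw [h7, pow_one] at ha
        exact (mul_inv_eq_iff_eq_mul.1 ha).symm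
      · exfalso
        rw [ha, h7, htr1, trace_diag (colB PG) (fun k => le_pow_apply (hl k) 2)] at htr
        exact ht2 htr.symm
      · exfalso
        rw [ha, h7, htr1, trace_diag (colB PG) (fun k => le_pow_apply (hl k) 4)] at htr
        exact ht4 htr.symm
    have hQm : ∀ a ∈ Q, ∀ b ∈ Q, a * b = b * a := by
      have h1 := IsPGroup.isMulCommutative_of_card_eq_prime_sq (p := 3) (G := Q) (by rw [hQc]; norm_num)
      exact fun a ha b hb => congrArg Subtype.val (h1.is_comm.comm ⟨a, ha⟩ ⟨b, hb⟩)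
    have hfour : ∀ a ∈ Q, ∀ b ∈ Q, 4 ≤ finrank F8 ↥(fix (le a) ⊓ fix (le b)) := fun a ha b hb =>
      four_le (colB PG) hl h4 (hq9 a ha) (hq9 b hb) (hcen a ha) (hcen b hb) (hQm a ha b hb)
    have hq3 : ∀ q ∈ Q, q ≠ 1 → q ^ 3 = 1 ∧ D q ≤ 4 := by
      intro q hq hq1
      rcases fact3 (hQ hq) (hq9 q hq) with h | h | h
      · exact absurd h hq1
      · exact h
      · exfalso
        have h1 := hfour q hq q hq
        rw [inf_idem] at h1
        have h2 : finrank F8 ↥(fix (le q)) = 0 := h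
        omega
    -- two generators
    obtain ⟨a, ha, ha1⟩ : ∃ a ∈ Q, a ≠ 1 := by
      by_contra hcon
      push Not at hcon
      have : Q = ⊥ := (Subgroup.eq_bot_iff_forall Q).2 hcon
      rw [this, Subgroup.card_bot] at hQc
      norm_num at hQc
    obtain ⟨b, hb, hba⟩ : ∃ b ∈ Q, b ∉ Subgroup.zpowers a := by
      by_contra hcon
      push Not at hcon
      have h1 := Subgroup.card_le_of_le (show Q ≤ Subgroup.zpowers a from hcon)
      have h2 : orderOf a ∣ 3 := orderOf_dvd_of_pow_eq_one (hq3 a ha ha1).1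
      rw [hQc, Nat.card_zpowers] at h1
      have := Nat.le_of_dvd (by norm_num) h2
      omega
    have hb1 : b ≠ 1 := fun h => hba (h ▸ Subgroup.one_mem _)
    have hF4 := hfour a ha b hb
    have hle : ∀ y ∈ Q, y ≠ 1 → fix (le a) ⊓ fix (le b) ≤ fix (le y) → fix (le y) ≤ fix (le a) ⊓ fix (le b) := by
      intro y hy hy1 h
      have h1 := (hq3 y hy hy1).2
      exact (Submodule.eq_of_le_of_finrank_le h (le_trans h1 hF4)).ge
    have hfab : ∀ v, v ∈ fix (le a) ⊓ fix (le b) → le a v = v ∧ le b v = v := fun v hv => ⟨hv.1, hv.2⟩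
    have hall := all_fixed (hq3 a ha ha1).1 (hq3 b hb hb1).1 (hQm a ha b hb) (F := fix (le a) ⊓ fix (le b))
      (hle a ha ha1 inf_le_left) (hle b hb hb1 inf_le_right)
      (hle _ (Q.mul_mem ha hb) (by
        intro h
        apply hba
        have : b = a⁻¹ := (inv_eq_of_mul_eq_one_right h).symm
        rw [this]
        exact Subgroup.inv_mem _ (Subgroup.mem_zpowers a)) (by
        intro v hv
        obtain ⟨h1, h2⟩ := hfab v hv
        rw [mem_fix', le_mul_apply, h2, h1]))
      (hle _ (Q.mul_mem ha (Q.pow_mem hb 2)) (by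
        intro h
        apply hba
        have h1 : b = a := by
          have h2 : a * b ^ 2 * b = b := by rw [h, one_mul]
          rw [mul_assoc, ← pow_succ, (hq3 b hb hb1).1, mul_one] at h2
          exact h2.symm
        rw [h1]
        exact Subgroup.mem_zpowers a) (by
        intro v hv
        obtain ⟨h1, h2⟩ := hfab v hv
        rw [mem_fix', pow_two, le_mul_apply, le_mul_apply, h2, h2, h1]))
    have h8 : fix (le a) = ⊤ := by
      rw [eq_top_iff]
      intro v _
      exact (hall v).1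
    have h9 := (hq3 a ha ha1).2
    have h10 : D a = 8 := by
      unfold D
      rw [h8, finrank_top, finrank_V]
    omega
  · -- `D`-type
    obtain ⟨z, hz⟩ := exists_prime_orderOf_dvd_card' 3 hk3
    have hz' : orderOf ((z : Q) : GG) = 3 := by rw [Subgroup.orderOf_coe, Subgroup.orderOf_coe, hz]
    have hzc := hf z.1 (MonoidHom.mem_ker.1 z.2)
    have hz3 : ((z : Q) : GG) ^ 3 = 1 := by rw [← hz']; exact pow_orderOf_eq_one _
    have h5 := hD _ hzc.symm hz3
    rcases fact3 (hQ z.1.2) (j := 1) (by rw [pow_one]; exact hz3) with h | ⟨-, h⟩ | h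
    · rw [h, orderOf_one] at hz'
      norm_num at hz'
    · omega
    · omega

/-- **no group of order 9 normalises a group of order 7** -/
theorem nineG {x : GG} (hx : x ∈ Gam) (ho : orderOf x = 7) {Q : Subgroup GG} (hQ : Q ≤ Gam) (hQc : Nat.card Q = 9)
    (hn : ∀ q ∈ Q, q * x * q⁻¹ ∈ Subgroup.zpowers x) : False := by
  obtain ⟨g, hgG, i, hi, j, hj, hg⟩ := conj7 hx ho
  refine nine_aux hi hj hg (Gam.mul_mem (Gam.mul_mem hgG hx) (Gam.inv_mem hgG)) ?_
    (Q := Q.map (MulAut.conj g).toMonoidHom) ?_ ?_ ?_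
  · have := orderOf_injective (MulAut.conj g).toMonoidHom (MulAut.conj g).injective x
    rw [ho] at this
    exact this
  · rintro _ ⟨q, hq, rfl⟩
    exact Gam.mul_mem (Gam.mul_mem hgG (hQ hq)) (Gam.inv_mem hgG)
  · rw [Nat.card_congr (Subgroup.equivMapOfInjective _ _ (MulAut.conj g).injective).toEquiv.symm, hQc]
  · rintro _ ⟨q, hq, rfl⟩
    obtain ⟨n, hn'⟩ := Subgroup.mem_zpowers_iff.1 (hn q hq)
    refine Subgroup.mem_zpowers_iff.2 ⟨n, ?_⟩
    rw [conj_zpow, hn']
    show _ = g * q * g⁻¹ * (g * x * g⁻¹) * (g * q * g⁻¹)⁻¹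
    group

/-- elements of `7`-power order -/
theorem exp7G {x : GG} (hx : x ∈ Gam) (h : x ^ 49 = 1) : x ^ 7 = 1 := by
  by_cases hx1 : x = 1
  · rw [hx1, one_pow]
  · exact (fact7 hx (j := 2) (by norm_num; exact h) hx1).1

theorem e9G : orderOf (wd q1W) = 9 := by
  have h := orderOf_eq_prime_pow (x := wd q1W) (p := 3) (n := 1)
    ((cd_q1.pow _).ne_of cd_one (by decide +kernel) (by decide +kernel) (by decide +kernel))
    ((cd_q1.pow _).eq_of cd_one (by decide +kernel))
  rw [h]; norm_num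

theorem sq_root : ∀ c : F8, c * c = 1 → c = 1 := by decide +kernel

theorem fix_simple2 (b : Basis (Fin 8) F8 V) {x z : GG} {lam : Fin 8 → F8} (hx : ∀ k, le x (b k) = lam k • b k)
    (hc : x * z = z * x) (hz : z ^ 2 = 1) {k : Fin 8} (hk : ∀ l, l ≠ k → lam l ≠ lam k) : le z (b k) = b k := by
  have h1 : ∀ l, l ≠ k → b.repr (le z (b k)) l = 0 := by
    intro l hl
    have h2 := coord_le b hx (le z (b k)) l
    rw [← le_mul_apply, hc, le_mul_apply, hx, map_smul, map_smul, Finsupp.smul_apply, smul_eq_mul] at h2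
    have h3 : (lam k - lam l) * b.repr (le z (b k)) l = 0 := by rw [sub_mul, h2, sub_self]
    exact (mul_eq_zero.1 h3).resolve_left (sub_ne_zero.2 (hk l hl).symm)
  set c := b.repr (le z (b k)) k with hcd
  have h2 : le z (b k) = c • b k := by
    apply b.repr.injective
    rw [map_smul, Basis.repr_self]
    ext l
    rw [Finsupp.smul_apply, smul_eq_mul]
    by_cases hl : l = k
    · rw [hl, Finsupp.single_eq_same, mul_one]
    · rw [h1 l hl, Finsupp.single_eq_of_ne hl, mul_zero]
  have h3 : (c * c) • b k = b k := by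
    have h4 : le (z ^ 2) (b k) = b k := by rw [hz, le_one]
    rw [pow_two, le_mul_apply, h2, map_smul, h2, smul_smul] at h4
    exact h4
  have h4 : c * c = 1 := by
    have h5 := congrArg (fun v => b.repr v k) h3
    simp only [map_smul, Finsupp.smul_apply, Basis.repr_self, Finsupp.single_eq_same, smul_eq_mul, mul_one] at h5
    exact h5
  rw [h2, sq_root c h4, one_smul]

theorem eq_one_of_fix {z : GG} (h : ∀ k, le z (colB PG k) = colB PG k) : z = 1 := by
  have h1 : (le z).toLinearMap = LinearMap.id := (colB PG).ext h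
  apply Units.ext
  have h2 : Matrix.toLin' (z : Matrix (Fin 8) (Fin 8) F8) = Matrix.toLin' 1 := by
    rw [Matrix.toLin'_one, ← h1]
    refine LinearMap.ext fun v => ?_
    rw [Matrix.toLin'_apply]
    rfl
  exact Matrix.toLin'.injective h2

theorem pow7_y7 : wd y7W ^ 7 = 1 := pow_y

theorem y7_ne : wd y7W ≠ 1 := cd_y7.ne_of cd_one (by decide +kernel) (by decide +kernel) (by decide +kernel)

theorem e7G : orderOf (wd y7W) = 7 := orderOf_eq_prime pow_y y7_ne

/-- **an element of order 7 commuting with no element of order 2 or 3** -/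
theorem dtG {z : GG} (hz : z ∈ Gam) (hc : z * wd y7W = wd y7W * z) : orderOf z ≠ 2 ∧ orderOf z ≠ 3 := by
  have hu : ∀ k, le (wd y7W) (colB PG k) = ev 0 1 k • colB PG k := by
    intro k
    have := eig_dy 0 1 k
    rwa [pow_zero, pow_one, one_mul] at this
  have hu0 : le (wd y7W) (colB PG 0) = colB PG 0 := by
    rw [hu, show ev 0 1 0 = 1 by decide +kernel, one_smul]
  have hDu : D (wd y7W) ≠ 0 := by
    intro h
    have h1 : colB PG 0 ∈ fix (le (wd y7W)) := hu0
    have h2 : fix (le (wd y7W)) = ⊥ := Submodule.finrank_eq_zero.1 h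
    rw [h2, Submodule.mem_bot] at h1
    exact (colB PG).ne_zero 0 h1
  rcases (fact7 (wd_mem y7W) (j := 1) (by rw [pow_one]; exact pow_y) y7_ne).2 with h | ⟨hD2, hD⟩
  · exact absurd h hDu
  constructor
  · intro ho
    have hz2 : z ^ 2 = 1 := by rw [← ho]; exact pow_orderOf_eq_one z
    have hz1 : z ≠ 1 := by
      rintro rfl
      rw [orderOf_one] at ho
      norm_num at ho
    have hcm : Commute (wd y7W) z := hc.symm
    obtain ⟨w, hw⟩ : ∃ w, w = wd y7W * z := ⟨_, rfl⟩
    have hwG : w ∈ Gam := by rw [hw]; exact Gam.mul_mem (wd_mem _) hz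
    have hw8 : w ^ 8 = wd y7W := by
      rw [hw, hcm.mul_pow]
      have e1 : z ^ 8 = 1 := by
        calc z ^ 8 = (z ^ 2) ^ 4 := by rw [← pow_mul]
          _ = 1 := by rw [hz2, one_pow]
      rw [e1, mul_one, pow_succ, pow_y, one_mul]
    have hw7 : w ^ 7 = z := by
      rw [hw, hcm.mul_pow, pow_y, one_mul]
      calc z ^ 7 = (z ^ 2) ^ 3 * z := by rw [← pow_mul, ← pow_succ]
        _ = z := by rw [hz2, one_pow, one_mul]
    have hle : fix (le w) ≤ fix (le (wd y7W)) := by
      intro v hv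
      rw [mem_fix'] at hv ⊢
      have : ∀ k : ℕ, le (w ^ k) v = v := by
        intro k
        induction k with
        | zero => rw [pow_zero, le_one]
        | succ k ih => rw [pow_succ, le_mul_apply, hv, ih]
      rw [← hw8]
      exact this 8
    have hDw : D w ≤ D (wd y7W) := Submodule.finrank_mono hle
    have hDw0 : D w ≠ 0 := by
      intro h
      have h2 : fix (le w) = ⊥ := Submodule.finrank_eq_zero.1 h
      have hzz : ∀ v : V, le z (le z v) = v := by
        intro v
        rw [← le_mul_apply, ← pow_two, hz2, le_one]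
      by_cases hv : colB PG 0 + le z (colB PG 0) = 0
      · have h3 : le z (colB PG 0) = colB PG 0 := by
          have h4 : colB PG 0 + colB PG 0 = 0 := by funext t; exact add_self8 _
          calc le z (colB PG 0) = (colB PG 0 + colB PG 0) + le z (colB PG 0) := by rw [h4, zero_add]
            _ = colB PG 0 + (colB PG 0 + le z (colB PG 0)) := by abel
            _ = colB PG 0 := by rw [hv, add_zero]
        have h5 : colB PG 0 ∈ fix (le w) := by
          rw [mem_fix', hw, le_mul_apply, h3, hu0]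
        rw [h2, Submodule.mem_bot] at h5
        exact (colB PG).ne_zero 0 h5
      · have h5 : colB PG 0 + le z (colB PG 0) ∈ fix (le w) := by
          rw [mem_fix', hw, le_mul_apply, map_add, hzz, map_add, hu0, ← le_mul_apply, ← hc, le_mul_apply, hu0]
          abel
        rw [h2, Submodule.mem_bot] at h5
        exact hv h5
    have hev := even_D_gam hwG
    rw [Nat.even_iff] at hev
    have heq : fix (le w) = fix (le (wd y7W)) := by
      apply Submodule.eq_of_le_of_finrank_le hle
      show D (wd y7W) ≤ D w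
      omega
    apply hz1
    apply eq_one_of_fix
    intro k
    rcases chkU k with h | h
    · have h3 : colB PG k ∈ fix (le w) := by
        rw [heq, mem_fix', hu, h, one_smul]
      rw [mem_fix'] at h3
      have : ∀ m : ℕ, le (w ^ m) (colB PG k) = colB PG k := by
        intro m
        induction m with
        | zero => rw [pow_zero, le_one]
        | succ m ih => rw [pow_succ, le_mul_apply, h3, ih]
      rw [← hw7]
      exact this 7
    · exact fix_simple2 (colB PG) hu hc.symm hz2 h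
  · intro ho
    have hz3 : z ^ 3 = 1 := by rw [← ho]; exact pow_orderOf_eq_one z
    have h5 := hD z hc.symm hz3
    rcases fact3 hz (j := 1) (by rw [pow_one]; exact hz3) with h | ⟨-, h⟩ | h
    · rw [h, orderOf_one] at ho
      norm_num at ho
    · omega
    · omega

end Cfsg.Agent.H788.Der.DTwo
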