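import Cfsg.Agent.H788.Der.DTwoRes

/-!
# Derangements of `³D₄(2)`: subgroups without solvable normal subgroups (helper788)
-/

set_option autoImplicit false

namespace Cfsg.Agent.H788.Der.DTwo

open Subgroup Cfsg Cfsg.Agent.OrdDiv Cfsg.Agent.H439.Der Cfsg.Agent.H938.Sax Cfsg.Agent.H369.Socle
open Cfsg.Agent.SignalizersComponents.Components

theorem norm168 {S : Type*} [Group S] [Finite S] (hS : Nat.card S = 168) :
    ∃ x : S, orderOf x = 7 ∧ 3 ∣ Nat.card (normalizer (zpowers x : Set S)) := by
  have i7 : Fact (Nat.Prime 7) := ⟨by norm_num⟩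
  obtain ⟨P⟩ : Nonempty (Sylow 7 S) := inferInstance
  have hPc : Nat.card (P : Subgroup S) = 7 := by
    rw [Sylow.card_eq_multiplicity, hS]
    have h5 : (168 : ℕ).factorization 7 = 1 := by
      have e : (168 : ℕ) = 7 ^ 1 * 24 := by norm_num
      rw [e, Nat.factorization_mul (by norm_num) (by norm_num), Finsupp.add_apply,
        Nat.Prime.factorization_pow (by norm_num), Finsupp.single_eq_same,
        Nat.factorization_eq_zero_of_not_dvd (by norm_num)]
    rw [h5, pow_one]
  obtain ⟨x, hx, hPx⟩ := exists_zpowers i7.out hPc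
  refine ⟨x, hx, ?_⟩
  have hn1 : Nat.card (Sylow 7 S) ≡ 1 [MOD 7] := card_sylow_modEq_one 7 S
  rw [Sylow.card_eq_index_normalizer P] at hn1
  replace hn1 : (normalizer ((P : Subgroup S) : Set S)).index ≡ 1 [MOD 7] := hn1
  rw [hPx] at hn1
  have h1 := (normalizer (zpowers x : Set S)).card_mul_index
  have h2 : 7 ∣ Nat.card (normalizer (zpowers x : Set S)) := by
    rw [← hx, ← Nat.card_zpowers]
    exact card_dvd_of_le le_normalizer
  rw [hS] at h1
  generalize (normalizer (zpowers x : Set S)).index = n at h1 hn1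
  obtain ⟨m, hm⟩ := h2
  rw [hm] at h1 ⊢
  have h3 : m * n = 24 := by
    have : 7 * (m * n) = 7 * 24 := by rw [← mul_assoc, h1]
    omega
  have h4 : n ∣ 24 := ⟨m, by rw [← h3, mul_comm]⟩
  have h5 := Nat.le_of_dvd (by norm_num) h4
  unfold Nat.ModEq at hn1
  have h6 : n = 1 ∨ n = 8 ∨ n = 15 ∨ n = 22 := by omega
  rcases h6 with rfl | rfl | rfl | rfl
  · exact ⟨7 * 8, by omega⟩
  · exact ⟨7, by omega⟩
  · omega
  · omega

/-- a simple subgroup is in every subgroup of index two -/
theorem simple_le_index_two {R : Type*} [Group R] [Finite R] {S N : Subgroup R} [IsSimpleGroup S] (hS : 2 < Nat.card S)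
    (hN : N.index = 2) : S ≤ N := by
  have hNn : N.Normal := Subgroup.normal_of_index_eq_two hN
  have h1 : (N.subgroupOf S).Normal := inferInstance
  rcases h1.eq_bot_or_eq_top with h | h
  · exfalso
    have h2 : (N.subgroupOf S).index ∣ N.index := Subgroup.relIndex_dvd_index_of_normal N S
    rw [h, Subgroup.index_bot, hN] at h2
    exact absurd (Nat.le_of_dvd (by norm_num) h2) (by omega)
  · exact Subgroup.subgroupOf_eq_top.1 h

namespace Ctx

variable {G : Type} [Group G] (C : Ctx G) {R : Subgroup G}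

include C

/-- commuting subgroups in the normalizer of a group of order 7 -/
theorem no_commuting [Finite G] {A D : Subgroup R} {x : R} (hx : orderOf x = 7) (hA : A ≤ normalizer (zpowers x : Set R))
    (hD : ∀ d ∈ D, d * x = x * d) (hAD : ∀ a ∈ A, ∀ d ∈ D, a * d = d * a) (hdis : Disjoint A D)
    (h9 : 9 ∣ Nat.card A * Nat.card D) : False := by
  have hx' : orderOf (x : G) = 7 := by rw [Subgroup.orderOf_coe, hx]
  apply C.nine x hx'
  let f : A × D →* R := MonoidHom.noncommCoprod A.subtype D.subtype fun a d => hAD a a.2 d d.2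
  have hf : Function.Injective f := by
    refine (MonoidHom.noncommCoprod_injective A.subtype D.subtype _).2
      ⟨A.subtype_injective, D.subtype_injective, ?_⟩
    rwa [Subgroup.range_subtype, Subgroup.range_subtype]
  have hfR : f.range ≤ normalizer (zpowers x : Set R) := by
    rintro _ ⟨⟨a, d⟩, rfl⟩
    have h1 : f (a, d) = a * d := rfl
    rw [h1]
    refine mul_mem (hA a.2) ?_
    apply mem_normalizer_of
    rw [hD d d.2, mul_inv_cancel_right]
    exact mem_zpowers x
  have hle : (normalizer (zpowers x : Set R)).map R.subtype ≤ normalizer (zpowers (x : G) : Set G) := by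
    rintro _ ⟨n, hn, rfl⟩
    apply mem_normalizer_of
    have h5 := (Subgroup.mem_normalizer_iff.1 hn x).1 (mem_zpowers x)
    obtain ⟨j, hj⟩ := mem_zpowers_iff.1 h5
    exact mem_zpowers_iff.2 ⟨j, by simpa using congrArg Subtype.val hj⟩
  have hcard : Nat.card f.range = Nat.card A * Nat.card D := by
    rw [← Nat.card_prod, Nat.card_congr (MonoidHom.ofInjective hf).toEquiv.symm]
  rw [← hcard] at h9
  refine h9.trans ((card_dvd_of_le hfR).trans ?_)
  have h2 := card_dvd_of_le hle
  rwa [Nat.card_congr (Subgroup.equivMapOfInjective _ _ (Subgroup.subtype_injective _)).toEquiv.symm] at h2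

theorem of_nosol (Tb : OrderTable.{0}) (hK : ∀ (S : Type) [Group S] [Finite S] [IsSimpleGroup S], IsKnownSimple' S)
    (hN : NoSol ↥R) (hR1 : R ≠ ⊥) (h13 : ¬ 13 ∣ Nat.card R) : Res R := by
  have := C.fin
  have i3 : Fact (Nat.Prime 3) := ⟨Nat.prime_three⟩
  have i7 : Fact (Nat.Prime 7) := ⟨by norm_num⟩
  have hRd : Nat.card R ∣ 16257024 := by
    have h5 : Nat.card R ∣ 16257024 * 13 := by
      have h6 := Subgroup.card_subgroup_dvd_card R
      rw [C.card] at h6
      exact h6.trans (by norm_num)
    exact Nat.Coprime.dvd_of_dvd_mul_right ((Nat.Prime.coprime_iff_not_dvd (by norm_num)).2 h13).symm h5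
  -- a component
  obtain ⟨S, hSc⟩ : ∃ S : Subgroup R, IsComponent S := by
    by_contra hcon
    push Not at hcon
    apply hR1
    rw [eq_bot_iff]
    intro r hr
    have h1 := eq_one_of_centralizes hN (h := ⟨r, hr⟩) fun D hD => absurd hD (hcon D)
    exact mem_bot.2 (congrArg Subtype.val h1)
  have hcase : ∀ D : Subgroup R, IsComponent D → (Nat.card D = 168 ∧ Nat.card (MulAut D) = 336) ∨
      (Nat.card D = 504 ∧ Nat.card (MulAut D) = 1512) ∨
      (Nat.card D = 6048 ∧ Nat.card (MulAut D) = 12096 ∧ ∀ x : D, orderOf x ≠ 9) := fun D hD => by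
    have : IsSimpleGroup D := isSimple hN hD
    exact cases_dvd Tb (hK D) (not_comm hD) ((card_subgroup_dvd_card D).trans hRd)
  by_cases huniq : ∀ D : Subgroup R, IsComponent D → D = S
  · have hSn : S.Normal := by
      constructor
      intro n hn g
      have h1 := huniq _ (isComponent_conj g hSc)
      rw [← h1]
      exact ⟨n, hn, rfl⟩
    have hSs : IsSimpleGroup S := isSimple hN hSc
    have hCS : centralizer (S : Set R) = ⊥ := by
      rw [eq_bot_iff]
      intro r hr
      rw [mem_bot]
      refine eq_one_of_centralizes hN fun D hD x hx => ?_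
      rw [huniq D hD] at hx
      rw [← mem_centralizer_iff.1 hr x hx, mul_inv_cancel_right]
    have hAut := card_dvd_mulaut S hCS
    rcases hcase S hSc with ⟨h1, h2⟩ | ⟨h1, h2⟩ | ⟨h1, h2, h3⟩
    · rw [h2] at hAut
      exact C.res_of_not_nine fun h9 => absurd (h9.trans hAut) (by norm_num)
    · rw [h2] at hAut
      refine ⟨?_, fun h => absurd (h.trans hAut) (by norm_num)⟩
      obtain ⟨z, hz⟩ := C.e8
      refine ⟨z, by rw [hz]; norm_num, fun φ hφ => ?_⟩
      have hz' : orderOf (⟨φ z, hφ⟩ : R) = 2 ^ 3 := by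
        rw [Subgroup.orderOf_mk, orderOf_mulEquiv, hz]; norm_num
      obtain ⟨N, hN2⟩ := Cfsg.Agent.H834.Sax.exists_index_two (by norm_num) hz'
        (fun h => absurd (h.trans hAut) (by norm_num))
      have hSN := simple_le_index_two (S := S) (by omega) hN2
      have h4 := card_dvd_of_le hSN
      have h5 := N.card_mul_index
      rw [hN2] at h5
      rw [h1] at h4
      obtain ⟨s, hs⟩ := h4
      obtain ⟨t, ht⟩ := hAut
      rw [← h5, hs] at ht
      have h6 : s * t * 2 * 504 = 3 * 504 := by
        calc s * t * 2 * 504 = 504 * s * 2 * t := by ring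
          _ = 3 * 504 := ht.symm
      omega
    · rw [h2] at hAut
      refine ⟨?_, fun h => absurd (h.trans hAut) (by norm_num)⟩
      obtain ⟨z, hz⟩ := C.e9
      refine ⟨z, by rw [hz]; norm_num, fun φ hφ => ?_⟩
      set w : R := ⟨φ z, hφ⟩ with hw
      have hz' : orderOf w = 9 := by
        rw [hw, Subgroup.orderOf_mk, orderOf_mulEquiv, hz]
      have h4 := S.card_mul_index
      have h5 : S.index ∣ 2 := by
        rw [← h4, h1] at hAut
        exact Nat.dvd_of_mul_dvd_mul_left (by norm_num : 0 < 6048) hAut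
      have h6 : w ^ 2 ∈ S := by
        have h7 : (QuotientGroup.mk w : R ⧸ S) ^ 2 = 1 := by
          obtain ⟨t, ht⟩ := h5
          rw [ht, pow_mul]
          have : (QuotientGroup.mk w : R ⧸ S) ^ S.index = 1 := by
            rw [Subgroup.index_eq_card]
            exact pow_card_eq_one'
          rw [this, one_pow]
        rw [← QuotientGroup.mk_pow] at h7
        exact (QuotientGroup.eq_one_iff _).1 h7
      have h7 : w ∈ S := by
        have h8 : w = (w ^ 2) ^ 5 := by
          rw [← pow_mul]
          have h9 : w ^ 9 = 1 := by rw [← hz']; exact pow_orderOf_eq_one w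
          calc w = w ^ 9 * w := by rw [h9, one_mul]
            _ = w ^ (2 * 5) := by rw [← pow_succ]
        rw [h8]
        exact pow_mem h6 5
      exact h3 ⟨w, h7⟩ (by rw [Subgroup.orderOf_mk, hz'])
  · exfalso
    push Not at huniq
    obtain ⟨D, hD, hne⟩ := huniq
    have hcomm : ∀ x ∈ S, ∀ y ∈ D, x * y = y * x := fun x hx y hy => comm_of_ne hSc hD (Ne.symm hne) hx hy
    -- the general contradiction
    have key : ∀ A B : Subgroup R, IsComponent A → IsComponent B → (∀ x ∈ A, ∀ y ∈ B, x * y = y * x) →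
        9 ∣ Nat.card B → False := by
      intro A B hA hB hAB h9
      have h7 : 7 ∣ Nat.card A := by
        rcases hcase A hA with h | h | h <;> rw [h.1] <;> norm_num
      obtain ⟨x, hx⟩ := exists_prime_orderOf_dvd_card' 7 h7
      have hx' : orderOf (x : R) = 7 := by rw [Subgroup.orderOf_coe, hx]
      refine C.no_commuting (A := ⊥) (D := B) hx' bot_le (fun d hd => (hAB x x.2 d hd).symm) ?_ disjoint_bot_left ?_
      · intro a ha d _
        rw [mem_bot.1 ha, one_mul, mul_one]
      · exact h9.mul_left _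
    rcases hcase S hSc with ⟨h1, -⟩ | h | h
    · rcases hcase D hD with ⟨h1', -⟩ | h | h
      · obtain ⟨x, hx, h3⟩ := norm168 h1
        have hx' : orderOf (x : R) = 7 := by rw [Subgroup.orderOf_coe, hx]
        set A : Subgroup R := (normalizer (zpowers x : Set S)).map S.subtype with hA
        have hAS : A ≤ S := map_subtype_le _
        refine C.no_commuting (A := A) (D := D) hx' ?_ (fun d hd => (hcomm x x.2 d hd).symm)
          (fun a ha d hd => hcomm a (hAS ha) d hd) ?_ ?_
        · rintro _ ⟨n, hn, rfl⟩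
          apply mem_normalizer_of
          have h5 := (Subgroup.mem_normalizer_iff.1 hn x).1 (mem_zpowers x)
          obtain ⟨j, hj⟩ := mem_zpowers_iff.1 h5
          exact mem_zpowers_iff.2 ⟨j, by simpa using congrArg Subtype.val hj⟩
        · rw [disjoint_iff, eq_bot_iff]
          intro r hr
          have h4 : (⟨r, hAS hr.1⟩ : S) ∈ center S := by
            rw [mem_center_iff]
            intro s
            exact Subtype.ext (hcomm s s.2 r hr.2)
          rw [center_eq_bot hN hSc, mem_bot] at h4
          exact mem_bot.2 (congrArg Subtype.val h4)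
        · rw [hA, Nat.card_congr (Subgroup.equivMapOfInjective _ _ (Subgroup.subtype_injective _)).toEquiv.symm, h1']
          exact Nat.mul_dvd_mul h3 (by norm_num : 3 ∣ 168)
      · exact key S D hSc hD hcomm (by rw [h.1]; norm_num)
      · exact key S D hSc hD hcomm (by rw [h.1]; norm_num)
    · exact key D S hD hSc (fun x hx y hy => (hcomm y hy x hx).symm) (by rw [h.1]; norm_num)
    · exact key D S hD hSc (fun x hx y hy => (hcomm y hy x hx).symm) (by rw [h.1]; norm_num)

/-- **The subgroups of order divisible by 7 and prime to 13.** -/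
theorem main (Tb : OrderTable.{0}) (hK : ∀ (S : Type) [Group S] [Finite S] [IsSimpleGroup S], IsKnownSimple' S)
    (h7 : 7 ∣ Nat.card R) (h13 : ¬ 13 ∣ Nat.card R) : Res R := by
  have := C.fin
  by_cases hN : NoSol ↥R
  · refine C.of_nosol Tb hK hN ?_ h13
    rintro rfl
    rw [Subgroup.card_bot] at h7
    norm_num at h7
  · obtain ⟨p, P0, hp, hPn, hPp, hP1⟩ := exists_normal_p hN
    have ip := Fact.mk hp
    set P : Subgroup G := P0.map R.subtype with hP
    have hPR : P ≤ R := map_subtype_le _
    have hRN : R ≤ normalizer (P : Set G) := by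
      intro r hr
      rw [Subgroup.mem_normalizer_iff]
      have h1 : ∀ (s : G) (hs : s ∈ R) (y : G), y ∈ P → s * y * s⁻¹ ∈ P := by
        rintro s hs _ ⟨y, hy, rfl⟩
        exact ⟨⟨s, hs⟩ * y * ⟨s, hs⟩⁻¹, hPn.conj_mem y hy ⟨s, hs⟩, rfl⟩
      intro y
      constructor
      · exact h1 r hr y
      · intro hy
        have h2 := h1 r⁻¹ (inv_mem hr) _ hy
        have e : r⁻¹ * (r * y * r⁻¹) * r⁻¹⁻¹ = y := by group
        rwa [e] at h2
    have hPG : IsPGroup p P := hPp.map _
    have hPb : P ≠ ⊥ := by
      rw [hP, Ne, Subgroup.map_eq_bot_iff_of_injective _ R.subtype_injective]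
      exact hP1
    have hpd : p ∣ Nat.card R := by
      have h1 : p ∣ Nat.card P0 := by
        obtain ⟨k, hk⟩ := IsPGroup.iff_card.1 hPp
        rw [hk]
        refine dvd_pow_self p ?_
        rintro rfl
        rw [pow_zero, Subgroup.card_eq_one] at hk
        exact hP1 hk
      exact h1.trans (Subgroup.card_subgroup_dvd_card P0)
    have hpc : p = 2 ∨ p = 3 ∨ p = 7 := by
      have h1 : p ∣ 2 ^ 12 * (3 ^ 4 * (7 ^ 2 * 13)) := by
        have h2 := hpd.trans (Subgroup.card_subgroup_dvd_card R)
        rw [C.card] at h2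
        exact h2.trans (by norm_num)
      rcases hp.dvd_mul.1 h1 with h | h
      · exact Or.inl ((Nat.prime_dvd_prime_iff_eq hp Nat.prime_two).1 (hp.dvd_of_dvd_pow h))
      rcases hp.dvd_mul.1 h with h | h
      · exact Or.inr (Or.inl ((Nat.prime_dvd_prime_iff_eq hp Nat.prime_three).1 (hp.dvd_of_dvd_pow h)))
      rcases hp.dvd_mul.1 h with h | h
      · exact Or.inr (Or.inr ((Nat.prime_dvd_prime_iff_eq hp (by norm_num)).1 (hp.dvd_of_dvd_pow h)))
      · exfalso
        have h3 := (Nat.prime_dvd_prime_iff_eq hp (by norm_num)).1 h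
        subst h3
        exact h13 hpd
    rcases hpc with rfl | rfl | rfl
    · exact C.of_two hPG hPb hRN
    · exact C.of_three hPG hPb hPR hRN h7 h13
    · exact C.of_seven hPG hPb hRN

end Ctx

end Cfsg.Agent.H788.Der.DTwo
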