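import Cfsg.Agent.H788.Der.DTwoBT
import Cfsg.Agent.H788.Der.DTwoNS
import Cfsg.Agent.H788.Der.DTwoGam

/-!
# The facts on `³D₄(2)` (helper788)
-/

set_option autoImplicit false

namespace Cfsg.Agent.H788.Der.DTwo

open Subgroup Cfsg Cfsg.Lie Cfsg.Agent.H831.DGrp Cfsg.Agent.H831.DWord Cfsg.Agent.H831.DSyl

theorem ctx {K : Type} [Field K] [Fintype K] (hK : Fintype.card K = 8) : Ctx ↥(twistedD4 K 2) := by
  have i3 : Fact (Nat.Prime 3) := ⟨Nat.prime_three⟩
  obtain ⟨e⟩ := gam_iso K hK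
  let h : ↥(twistedD4 K 2) →* GG := Gam.subtype.comp e.symm.toMonoidHom
  have hinj : Function.Injective h := Gam.subtype_injective.comp e.symm.injective
  have hG : ∀ t, h t ∈ Gam := fun t => (e.symm t).2
  have ho : ∀ t, orderOf (h t) = orderOf t := orderOf_injective h hinj
  have hsurj : ∀ x (hx : x ∈ Gam), h (e ⟨x, hx⟩) = x := by
    intro x hx
    show ((e.symm (e ⟨x, hx⟩) : Gam) : GG) = x
    rw [e.symm_apply_apply]
  have hfin : Finite ↥(twistedD4 K 2) := inferInstance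
  refine ⟨hfin, ?_, ?_, ?_, ?_, ?_, ?_, ?_⟩
  · rw [← card_gam]
    exact Nat.card_congr e.symm.toEquiv
  · exact fun P Y hP hP1 hY => two_local (by rw [hK]; norm_num) P hP hP1 Y hY
  · intro x hx h9
    obtain ⟨Q0, hQ0⟩ := Sylow.exists_subgroup_card_pow_prime 3 (n := 2)
      (G := normalizer (zpowers x : Set ↥(twistedD4 K 2))) h9
    have hc : Nat.card (Q0.map ((h.comp (Subgroup.subtype _)))) = 9 := by
      have h1 := Nat.card_congr (Subgroup.equivMapOfInjective Q0
        (h.comp (normalizer (zpowers x : Set ↥(twistedD4 K 2))).subtype)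
        (hinj.comp (Subgroup.subtype_injective _))).toEquiv
      rw [← h1, hQ0]
      norm_num
    refine nineG (hG x) (by rw [ho, hx]) (Q := Q0.map (h.comp (Subgroup.subtype _))) ?_ hc ?_
    · rintro _ ⟨q, -, rfl⟩
      exact hG _
    · rintro _ ⟨q, -, rfl⟩
      have h1 := (Subgroup.mem_normalizer_iff.1 q.2 x).1 (mem_zpowers x)
      obtain ⟨n, hn⟩ := mem_zpowers_iff.1 h1
      refine mem_zpowers_iff.2 ⟨n, ?_⟩
      have h2 := congrArg h hn
      rw [map_zpow, map_mul, map_mul, map_inv] at h2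
      exact h2
  · intro x hx
    apply hinj
    rw [map_pow, map_one]
    apply exp7G (hG x)
    rw [← map_pow, hx, map_one]
  · refine ⟨e ⟨wd y7W, wd_mem _⟩, by rw [← ho, hsurj, e7G], fun z hz => ?_⟩
    have h1 := congrArg h hz
    rw [map_mul, map_mul, hsurj] at h1
    have h2 := dtG (hG z) h1
    rwa [ho] at h2
  · exact ⟨e ⟨wd [2, 5], wd_mem _⟩, by rw [← ho, hsurj, H831.DSpec.order_et]⟩
  · exact ⟨e ⟨wd q1W, wd_mem _⟩, by rw [← ho, hsurj, e9G]⟩

end Cfsg.Agent.H788.Der.DTwo
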