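import Cfsg.Agent.OrdDiv.Main
import Cfsg.Agent.ClassicalGeometry.PSL2Basic
import Cfsg.Agent.S0813
import Cfsg.Agent.S0815

/-!
# The simple groups whose order divides `2 ^ 12 * 3 ^ 4 * 7 ^ 2` (helper788)

`cases_dvd` : orders `168`, `504`, `6048`, with the orders of the automorphism groups; the group of order `6048` has no
element of order nine.
-/

set_option autoImplicit false

namespace Cfsg.Agent.H788.Der.DTwo

open Subgroup Cfsg Cfsg.Agent.OrdDiv

theorem cube_of_three_pow {F : Type*} [Field F] [CharP F 3] (M : Matrix (Fin 3) (Fin 3) F) {a : ℕ}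
    (h : M ^ 3 ^ a = 1) : M ^ 3 = 1 := by
  have i3 : Fact (Nat.Prime 3) := ⟨Nat.prime_three⟩
  have h1 : (M - 1) ^ 3 ^ a = 0 := by
    rw [sub_pow_char_pow_of_commute (p := 3) a (Commute.one_right M), h, one_pow, sub_self]
  have h2 : IsNilpotent (M - 1) := ⟨_, h1⟩
  have h3 := Matrix.isNilpotent_charpoly_sub_pow_of_isNilpotent h2
  rw [isNilpotent_iff_eq_zero, sub_eq_zero, Fintype.card_fin] at h3
  have h4 := Matrix.aeval_self_charpoly (M - 1)
  rw [h3, map_pow, Polynomial.aeval_X] at h4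
  have h5 : (M - 1) ^ 3 = M ^ 3 - 1 := by
    have := sub_pow_char_of_commute (p := 3) (Commute.one_right M)
    rw [this, one_pow]
  rw [h5, sub_eq_zero] at h4
  exact h4

/-- no elements of order nine in `PSU₃(3)` -/
theorem no_nine {F : Type} [Field F] [Fintype F] (hF : Fintype.card F = 3 ^ 2) (x : PSU 3 F 3) : orderOf x ≠ 9 := by
  classical
  have i3 : Fact (Nat.Prime 3) := ⟨Nat.prime_three⟩
  have hch : CharP F 3 := by
    obtain ⟨p, hp⟩ := CharP.exists F
    obtain ⟨n, hp', hn⟩ := FiniteField.card F p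
    rw [hF] at hn
    have h3 : p ∣ 3 := by
      apply hp'.dvd_of_dvd_pow (n := 2)
      rw [hn]
      exact dvd_pow_self p n.ne_zero
    rw [(Nat.prime_dvd_prime_iff_eq hp' Nat.prime_three).1 h3] at hp
    exact hp
  intro hx
  obtain ⟨g, rfl⟩ := QuotientGroup.mk_surjective x
  obtain ⟨a, b, hb, hab⟩ := Nat.exists_eq_pow_mul_and_not_dvd (orderOf_pos g).ne' 3 (by norm_num)
  -- `g ^ b` has order `3 ^ a`
  have h1 : (g ^ b) ^ 3 ^ a = 1 := by
    rw [← pow_mul, mul_comm, ← hab]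
    exact pow_orderOf_eq_one g
  have h2 : (g ^ b) ^ 3 = 1 := by
    have h3 : ((g ^ b : SU 3 F 3) : Matrix.SpecialLinearGroup (Fin 3) F).1 ^ 3 ^ a = 1 := by
      have := congrArg (fun y : SU 3 F 3 => (y : Matrix.SpecialLinearGroup (Fin 3) F).1) h1
      simpa using this
    have h4 := cube_of_three_pow _ h3
    apply Subtype.ext
    apply Subtype.ext
    simpa using h4
  have h5 : (QuotientGroup.mk g : PSU 3 F 3) ^ (b * 3) = 1 := by
    rw [pow_mul, ← QuotientGroup.mk_pow, ← QuotientGroup.mk_pow, h2, QuotientGroup.mk_one]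
  have h6 := orderOf_dvd_of_pow_eq_one h5
  rw [hx] at h6
  apply hb
  exact Nat.dvd_of_mul_dvd_mul_right (by norm_num : 0 < 3) (by simpa using h6)

theorem cand_237 : ∀ g ∈ cands [(2, 12), (3, 4), (7, 2)] 16257024,
    g = .psl 2 7 ∨ g = .psl 2 8 ∨ g = .psl 3 2 ∨ g = .psu 3 3 := by decide +kernel

/-- **The simple groups whose order divides `2 ^ 12 * 3 ^ 4 * 7 ^ 2`.** -/
theorem cases_dvd (Tb : OrderTable.{0}) {S : Type} [Group S] [Finite S] (hk : IsKnownSimple' S)
    (hna : ¬ ∀ a b : S, a * b = b * a) (hd : Nat.card S ∣ 16257024) :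
    (Nat.card S = 168 ∧ Nat.card (MulAut S) = 336) ∨ (Nat.card S = 504 ∧ Nat.card (MulAut S) = 1512) ∨
      (Nat.card S = 6048 ∧ Nat.card (MulAut S) = 12096 ∧ ∀ x : S, orderOf x ≠ 9) := by
  have i2 : Fact (Nat.Prime 2) := ⟨Nat.prime_two⟩
  have i3 : Fact (Nat.Prime 3) := ⟨Nat.prime_three⟩
  have i7 : Fact (Nat.Prime 7) := ⟨by norm_num⟩
  obtain ⟨g, hg, hR, ho⟩ := exists_good Tb hk hna (l := [(2, 12), (3, 4), (7, 2)]) (N := 16257024)
    (by decide +kernel) hd
  rcases cand_237 g hg with rfl | rfl | rfl | rfl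
  · obtain ⟨F, _, _, hF, ⟨e⟩⟩ := hR
    have ho' : Nat.card S = 168 := ho.trans (by decide +kernel)
    refine Or.inl ⟨ho', ?_⟩
    rw [Nat.card_congr (MulAut.congr e).toEquiv, S0813.result 7 1 le_rfl (by rw [hF]; rfl) 2 le_rfl (by norm_num)]
    have h2 := ClassicalGeometry.PSL2Basic.card_PGL_mul (Fin 2) F
    rw [Matrix.card_GL_field, hF] at h2
    have h3 : (∏ i : Fin 2, (7 ^ 2 - 7 ^ (i : ℕ)) : ℕ) = 336 * 6 := by decide +kernel
    rw [h3] at h2
    rw [if_pos rfl]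
    omega
  · obtain ⟨F, _, _, hF, ⟨e⟩⟩ := hR
    have ho' : Nat.card S = 504 := ho.trans (by decide +kernel)
    refine Or.inr (Or.inl ⟨ho', ?_⟩)
    rw [Nat.card_congr (MulAut.congr e).toEquiv, S0813.result 2 3 (by norm_num) (by rw [hF]; rfl) 2 le_rfl (by norm_num)]
    have h2 := ClassicalGeometry.PSL2Basic.card_PGL_mul (Fin 2) F
    rw [Matrix.card_GL_field, hF] at h2
    have h3 : (∏ i : Fin 2, (8 ^ 2 - 8 ^ (i : ℕ)) : ℕ) = 504 * 7 := by decide +kernel
    rw [h3] at h2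
    rw [if_pos rfl]
    omega
  · obtain ⟨F, _, _, hF, ⟨e⟩⟩ := hR
    have ho' : Nat.card S = 168 := ho.trans (by decide +kernel)
    refine Or.inl ⟨ho', ?_⟩
    rw [Nat.card_congr (MulAut.congr e).toEquiv, S0813.result 2 1 le_rfl (by rw [hF]; rfl) 3 (by norm_num) (by norm_num)]
    have h2 := ClassicalGeometry.PSL2Basic.card_PGL_mul (Fin 3) F
    rw [Matrix.card_GL_field, hF] at h2
    have h3 : (∏ i : Fin 3, (2 ^ 3 - 2 ^ (i : ℕ)) : ℕ) = 168 := by decide +kernel
    rw [h3] at h2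
    rw [if_neg (by norm_num)]
    omega
  · obtain ⟨F, _, _, hF, ⟨e⟩⟩ := hR
    have ho' : Nat.card S = 6048 := ho.trans (by decide +kernel)
    refine Or.inr (Or.inr ⟨ho', ?_, ?_⟩)
    · rw [Nat.card_congr (MulAut.congr e).toEquiv, S0815.result 3 1 le_rfl (by norm_num) hF 3 le_rfl (by norm_num),
        ← Nat.card_congr e.toEquiv, ho']
      norm_num
    · intro x hx
      exact no_nine hF (e x) (by rw [← hx]; exact orderOf_injective e.toMonoidHom e.injective x)

end Cfsg.Agent.H788.Der.DTwo
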