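import Cfsg.Agent.H369.Socle
import Cfsg.Agent.Lib.SolvableNormalP
import Cfsg.Agent.H439.Der.Three
import Cfsg.Agent.H834.Sax.Tool
import Cfsg.Agent.H788.Der.Kn

/-!
# Derangements of `³D₄(2)`: the subgroups of order prime to 13 (helper788)
-/

set_option autoImplicit false

namespace Cfsg.Agent.H788.Der.DTwo

open Subgroup Cfsg Cfsg.Agent.OrdDiv Cfsg.Agent.H439.Der Cfsg.Agent.H938.Sax Cfsg.Agent.H369.Socle

section general

variable {G : Type*} [Group G] [Finite G]

/-- an element of `p`-power order is conjugate into a Sylow `p`-subgroup -/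
theorem conj_into {p : ℕ} [Fact p.Prime] {Q : Subgroup G} (hQ : IsPGroup p Q) (h : ¬ p ∣ Q.index) {x : G} {k : ℕ}
    (hx : x ^ p ^ k = 1) : ∃ g : G, g * x * g⁻¹ ∈ Q := by
  let P := hQ.toSylow h
  have h3 : IsPGroup p (zpowers x) := by
    rintro ⟨y, hy⟩
    obtain ⟨i, rfl⟩ := mem_zpowers_iff.1 hy
    refine ⟨k, Subtype.ext ?_⟩
    show (x ^ i) ^ p ^ k = 1
    rw [← zpow_natCast, ← zpow_mul, mul_comm, zpow_mul, zpow_natCast, hx, one_zpow]
  obtain ⟨S, hS⟩ := h3.exists_le_sylow
  obtain ⟨g, hg⟩ := MulAction.exists_smul_eq G S P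
  refine ⟨g, ?_⟩
  have h6 : x ∈ S := hS (mem_zpowers x)
  have h7 : g * x * g⁻¹ ∈ P := by
    rw [← hg]
    exact smul_mem_pointwise_smul _ (MulAut.conj g) _ h6
  exact h7

omit [Group G] [Finite G] in
theorem num3 {k j : ℕ} (hk : k ≤ 4) (hj : j ≤ k) (h : 3 ^ k ≡ 3 ^ j [MOD 7]) : j = k := by
  interval_cases k <;> interval_cases j <;> first | rfl | exact absurd h (by decide)

/-- an element of order 7 centralises a normalised 3-subgroup of order at most 81 -/
theorem centralizes {P : Subgroup G} {k : ℕ} (hk : Nat.card P = 3 ^ k) (hk4 : k ≤ 4) {x : G} (hx : orderOf x = 7)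
    (hn : x ∈ normalizer (P : Set G)) : ∀ y ∈ P, y * x = x * y := by
  have i7 : Fact (Nat.Prime 7) := ⟨by norm_num⟩
  let f : zpowers x →* MulAut P := (P.normalizerMonoidHom).comp (Subgroup.inclusion (zpowers_le.2 hn))
  letI : MulAction (zpowers x) P := MulAction.compHom P f
  have hp : IsPGroup 7 (zpowers x) := IsPGroup.of_card (n := 1) (by rw [Nat.card_zpowers, hx, pow_one])
  have h1 := hp.card_modEq_card_fixedPoints P
  have hsm : ∀ (a : zpowers x) (y : P), ((a • y : P) : G) = a * y * (a : G)⁻¹ := fun a y => rfl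
  have h2 : Nat.card (MulAction.fixedPoints (zpowers x) P) = Nat.card ↥(P ⊓ centralizer ({x} : Set G)) := by
    refine Nat.card_congr ⟨fun y => ⟨y.1, y.1.2, ?_⟩, fun y => ⟨⟨y.1, y.2.1⟩, ?_⟩, fun _ => rfl, fun _ => rfl⟩
    · have h3 := congrArg Subtype.val (y.2 ⟨x, mem_zpowers x⟩)
      rw [hsm] at h3
      refine mem_centralizer_singleton_iff.2 ?_
      exact (mul_inv_eq_iff_eq_mul.1 h3).symm
    · intro a
      apply Subtype.ext
      rw [hsm]
      have h3 : (y : G) * x = x * y := mem_centralizer_singleton_iff.1 y.2.2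
      obtain ⟨i, hi⟩ := mem_zpowers_iff.1 a.2
      have h4 : Commute (y : G) (x ^ i) := (show Commute (y : G) x from h3).zpow_right i
      rw [← hi, mul_inv_eq_iff_eq_mul]
      exact h4.symm
  have h3 : Nat.card ↥(P ⊓ centralizer ({x} : Set G)) ∣ 3 ^ k := by
    rw [← hk]
    exact card_dvd_of_le inf_le_left
  obtain ⟨j, hj, h4⟩ := (Nat.dvd_prime_pow Nat.prime_three).1 h3
  rw [h2, h4, hk] at h1
  have h5 : j = k := num3 hk4 hj h1
  have h6 : P ⊓ centralizer ({x} : Set G) = P := Subgroup.eq_of_le_of_card_ge inf_le_left (by rw [h4, hk, h5])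
  intro y hy
  rw [← h6] at hy
  exact mem_centralizer_singleton_iff.1 hy.2

/-- a nonsolvable radical: a normal `p`-subgroup -/
theorem exists_normal_p {H : Type*} [Group H] [Finite H] (hN : ¬ NoSol H) :
    ∃ (p : ℕ) (P : Subgroup H), p.Prime ∧ P.Normal ∧ IsPGroup p P ∧ P ≠ ⊥ := by
  unfold NoSol at hN
  push Not at hN
  obtain ⟨K, hK, hs, hne⟩ := hN
  have : Nontrivial K := (nontrivial_iff_ne_bot K).2 hne
  obtain ⟨D, hDc, hDm, hD⟩ := Lib.SolvableNormalP.exists_comm_characteristic K
  have hD'n : (D.map K.subtype).Normal := inferInstance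
  have hcomm : ∀ a b : D.map K.subtype, a * b = b * a := by
    rintro ⟨a, ha⟩ ⟨b, hb⟩
    obtain ⟨a, ha, rfl⟩ := ha
    obtain ⟨b, hb, rfl⟩ := hb
    apply Subtype.ext
    exact congrArg (fun x : D => ((x : K) : H)) (hDm.is_comm.comm ⟨a, ha⟩ ⟨b, hb⟩)
  have hD'1 : D.map K.subtype ≠ ⊥ := by
    rw [Ne, Subgroup.map_eq_bot_iff_of_injective _ K.subtype_injective]
    exact hD
  generalize D.map K.subtype = E at hD'n hcomm hD'1
  have hcard : Nat.card E ≠ 1 := by
    rw [Ne, Subgroup.card_eq_one]; exact hD'1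
  obtain ⟨p, hp, hpd⟩ := Nat.exists_prime_and_dvd hcard
  have : Fact p.Prime := ⟨hp⟩
  obtain ⟨P⟩ : Nonempty (Sylow p E) := inferInstance
  have hPn : (P : Subgroup E).Normal := by
    constructor
    intro n hn g
    rwa [hcomm g n, mul_inv_cancel_right]
  have hPc : (P : Subgroup E).Characteristic := P.characteristic_of_normal hPn
  refine ⟨p, (P : Subgroup E).map E.subtype, hp, inferInstance, P.2.map _, ?_⟩
  rw [Ne, Subgroup.map_eq_bot_iff_of_injective _ E.subtype_injective]
  exact P.ne_bot_of_dvd_card hpd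

/-- a subgroup of prime order is generated by an element -/
theorem exists_zpowers {p : ℕ} (hp : p.Prime) {L : Subgroup G} (hL : Nat.card L = p) :
    ∃ x : G, orderOf x = p ∧ L = zpowers x := by
  have := Fact.mk hp
  have hc : IsCyclic L := isCyclic_of_prime_card hL
  obtain ⟨g, hg⟩ := hc.exists_generator
  have ho : orderOf (g : G) = p := by
    rw [Subgroup.orderOf_coe, orderOf_eq_card_of_forall_mem_zpowers hg, hL]
  refine ⟨g, ho, ?_⟩
  symm
  refine Subgroup.eq_of_le_of_card_ge (zpowers_le.2 g.2) ?_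
  rw [Nat.card_zpowers, ho, hL]

/-- a group with a normal subgroup of trivial centralizer -/
theorem card_dvd_mulaut {H : Type*} [Group H] [Finite H] (T : Subgroup H) [T.Normal]
    (hC : centralizer (T : Set H) = ⊥) : Nat.card H ∣ Nat.card (MulAut T) := by
  have h1 : (MulAut.conjNormal (H := T) : H →* MulAut T).ker = ⊥ := by
    rw [eq_bot_iff, ← hC]
    intro h hh
    rw [mem_centralizer_iff]
    intro t ht
    have h2 : ((MulAut.conjNormal h ⟨t, ht⟩ : T) : H) = t := by
      rw [MonoidHom.mem_ker.1 hh]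
      rfl
    rw [MulAut.conjNormal_apply, mul_inv_eq_iff_eq_mul] at h2
    exact h2.symm
  exact Subgroup.card_dvd_of_injective _ ((MonoidHom.ker_eq_bot_iff _).1 h1)

end general

section lines

variable {G : Type*} [Group G] [Finite G]

open Pointwise in
/-- groups of order 9 acting on a group of order 49 fix a line -/
theorem nine_lines (hexp : ∀ x : G, x ^ 49 = 1 → x ^ 7 = 1)
    (h9 : ∀ x : G, orderOf x = 7 → ¬ 9 ∣ Nat.card (normalizer (zpowers x : Set G))) {E : Subgroup G}
    (hE : Nat.card E = 49) : ¬ 9 ∣ Nat.card (normalizer (E : Set G)) := by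
  classical
  intro h
  have i3 : Fact (Nat.Prime 3) := ⟨Nat.prime_three⟩
  have i7 : Nat.Prime 7 := by norm_num
  obtain ⟨Q0, hQ0⟩ := Sylow.exists_subgroup_card_pow_prime 3 (n := 2) (G := normalizer (E : Set G)) h
  obtain ⟨Q, hQE, hQ⟩ : ∃ Q : Subgroup G, Q ≤ normalizer (E : Set G) ∧ Nat.card Q = 9 := by
    refine ⟨Q0.map (Subgroup.subtype _), map_subtype_le _, ?_⟩
    rw [Nat.card_congr (Subgroup.equivMapOfInjective _ _ (Subgroup.subtype_injective _)).toEquiv.symm, hQ0]
    norm_num
  letI : MulAction Q (Subgroup G) := MulAction.compHom (Subgroup G) ((MulAut.conj (G := G)).comp Q.subtype)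
  have hsm : ∀ (q : Q) (L : Subgroup G), q • L = MulAut.conj (q : G) • L := fun _ _ => rfl
  have hEq : ∀ q : Q, MulAut.conj (q : G) • E = E := by
    intro q
    have h1 := hQE q.2
    rw [Subgroup.mem_normalizer_iff] at h1
    ext x
    rw [Subgroup.mem_pointwise_smul_iff_inv_smul_mem]
    have h2 := h1 ((q : G)⁻¹ * x * q)
    have h3 : (q : G) * ((q : G)⁻¹ * x * q) * (q : G)⁻¹ = x := by group
    rw [h3] at h2
    rw [← h2, ← map_inv]
    show (q : G)⁻¹ * x * (q : G)⁻¹⁻¹ ∈ E ↔ _
    rw [inv_inv]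
  let A : SubMulAction Q (Subgroup G) :=
    { carrier := {L | L ≤ E ∧ Nat.card L = 7}
      smul_mem' := by
        rintro q L ⟨h1, h2⟩
        constructor
        · rw [hsm, ← hEq q]
          exact Subgroup.pointwise_smul_le_pointwise_smul_iff.2 h1
        · rw [hsm, ← h2]
          exact Nat.card_congr (Subgroup.equivSMul _ L).toEquiv.symm }
  have hp : IsPGroup 3 Q := IsPGroup.of_card (n := 2) (by rw [hQ]; norm_num)
  have h1 := hp.card_modEq_card_fixedPoints A
  -- the number of lines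
  have hA : Nat.card A = 8 := by
    let X := {y : G // y ∈ E ∧ y ≠ 1}
    have hX : Nat.card X = 48 := by
      have h2 : Nat.card {y : E // y ≠ 1} = 48 := by
        have := Fintype.ofFinite E
        rw [Nat.card_eq_fintype_card, Fintype.card_subtype_compl, Fintype.card_subtype_eq, ← Nat.card_eq_fintype_card,
          hE]
      rw [← h2]
      refine Nat.card_congr ⟨fun y => ⟨⟨y.1, y.2.1⟩, fun h => y.2.2 (congrArg Subtype.val h)⟩,
        fun y => ⟨y.1.1, y.1.2, fun h => y.2 (Subtype.ext h)⟩, fun _ => rfl, fun _ => rfl⟩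
    have ho : ∀ y : X, orderOf y.1 = 7 := by
      intro y
      have h2 : y.1 ^ 49 = 1 := by
        have h3 : (⟨y.1, y.2.1⟩ : E) ^ Nat.card E = 1 := pow_card_eq_one'
        rw [hE] at h3
        exact congrArg Subtype.val h3
      have := Fact.mk i7
      exact orderOf_eq_prime (hexp _ h2) y.2.2
    let f : X → A := fun y => ⟨zpowers y.1, zpowers_le.2 y.2.1, by rw [Nat.card_zpowers, ho y]⟩
    have := Fintype.ofFinite X
    have := Fintype.ofFinite A
    have h2 : Nat.card X = ∑ a : A, Nat.card {x : X // f x = a} := by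
      rw [← Nat.card_sigma]
      exact Nat.card_congr (Equiv.sigmaFiberEquiv f).symm
    have h3 : ∀ a : A, Nat.card {x : X // f x = a} = 6 := by
      intro a
      have ha : Nat.card a.1 = 7 := a.2.2
      have h4 : Nat.card {y : a.1 // y ≠ 1} = 6 := by
        have := Fintype.ofFinite a.1
        rw [Nat.card_eq_fintype_card, Fintype.card_subtype_compl, Fintype.card_subtype_eq, ← Nat.card_eq_fintype_card,
          ha]
      rw [← h4]
      have h5 : ∀ y : a.1, y ≠ 1 → zpowers (y : G) = a.1 := by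
        intro y hy
        have hy1 : (y : G) ≠ 1 := fun h => hy (Subtype.ext h)
        refine Subgroup.eq_of_le_of_card_ge (zpowers_le.2 y.2) ?_
        rw [Nat.card_zpowers, ho ⟨y, a.2.1 y.2, hy1⟩, ha]
      refine Nat.card_congr ⟨fun x => ⟨⟨x.1.1, ?_⟩, ?_⟩, fun y => ⟨⟨y.1.1, a.2.1 y.1.2, ?_⟩, ?_⟩, fun _ => rfl,
        fun _ => rfl⟩
      · have h6 : zpowers x.1.1 = a.1 := congrArg Subtype.val x.2
        rw [← h6]
        exact mem_zpowers _
      · exact fun h => x.1.2.2 (congrArg Subtype.val h)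
      · exact fun h => y.2 (Subtype.ext h)
      · exact Subtype.ext (h5 y.1 y.2)
    rw [hX, Finset.sum_congr rfl fun a _ => h3 a, Finset.sum_const, Finset.card_univ, smul_eq_mul,
      ← Nat.card_eq_fintype_card] at h2
    omega
  rw [hA] at h1
  have h2 : Nat.card (MulAction.fixedPoints Q A) ≠ 0 := by
    intro h0
    rw [h0] at h1
    exact absurd h1 (by decide)
  have h3 : Nonempty (MulAction.fixedPoints Q A) := by
    by_contra h4
    rw [not_nonempty_iff] at h4
    exact h2 Nat.card_of_isEmpty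
  obtain ⟨⟨L, hL⟩⟩ := h3
  obtain ⟨x, hx, hLx⟩ := exists_zpowers i7 L.2.2
  apply h9 x hx
  rw [← hLx, ← hQ]
  apply card_dvd_of_le
  intro q hq
  have h4 : MulAut.conj q • L.1 = L.1 := congrArg Subtype.val (hL ⟨q, hq⟩)
  rw [Subgroup.mem_normalizer_iff]
  intro y
  constructor
  · intro hy
    rw [← h4]
    exact smul_mem_pointwise_smul _ (MulAut.conj q) _ hy
  · intro hy
    rw [← h4] at hy
    rw [Subgroup.mem_pointwise_smul_iff_inv_smul_mem] at hy
    have h5 : (MulAut.conj q)⁻¹ • (q * y * q⁻¹) = y := by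
      show q⁻¹ * (q * y * q⁻¹) * q = y
      group
    rwa [h5] at hy

end lines

end Cfsg.Agent.H788.Der.DTwo
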