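import Cfsg.Agent.H185.NFTd
import Cfsg.Agent.H788.Der.DTwo

/-!
# 2-local subgroups of `³D₄(2)` (helper788)

`two_local` : their orders divide `2 ^ m * 63` and their elements of order 7 commute with involutions.
-/

set_option autoImplicit false
set_option linter.unusedSectionVars false

namespace Cfsg.Agent.H788.Der.DTwo

open CoxeterSystem Cfsg Cfsg.Lie Cfsg.Agent.ChevalleyStructure Cfsg.Agent.ChevalleyStructure.CoxeterGeom
  Cfsg.Agent.ChevalleyStructure.CoxeterGeomTypes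
  Cfsg.Agent.Tits.Roots Cfsg.Agent.Tits.Core Cfsg.Agent.Nodes.Reps Cfsg.Agent.Nodes.BNOf
  Cfsg.Agent.Nodes.RGDChev
  Cfsg.Agent.Nodes.StabComb Cfsg.Agent.Nodes.Bruhat Cfsg.Agent.Nodes.LeviDec
  Cfsg.Agent.ParSys.RootCount Cfsg.Agent.ParSys.RootExc
open Cfsg.Agent.Nodes.RGDFold hiding refl
open Cfsg.Agent.KFacts.RgdCharP Cfsg.Agent.H585.SuOwn
open Cfsg.Agent.H35.Poin hiding PJ_empty
open Cfsg.Agent.Nodes.RGDTwD4 Cfsg.Agent.ClosedExc.TwD4

theorem comm_of_two {G : Type*} [Group G] {z t : G} (hz : orderOf z = 2) (h5 : t * z * t⁻¹ ∈ Subgroup.zpowers z) :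
    t * z = z * t := by
  have h7 : orderOf (t * z * t⁻¹) = 2 := by rw [Cfsg.Agent.H439.Der.orderOf_conj, hz]
  obtain ⟨n, hn⟩ := Subgroup.mem_zpowers_iff.1 h5
  have h8 : z ^ (n % (2 : ℤ)) = t * z * t⁻¹ := by
    rw [← hn, ← zpow_mod_orderOf z n, hz]
    rfl
  rcases Int.emod_two_eq_zero_or_one n with h9 | h9
  · rw [h9, zpow_zero] at h8
    rw [← h8, orderOf_one] at h7
    norm_num at h7
  · rw [h9, zpow_one] at h8
    exact mul_inv_eq_iff_eq_mul.1 h8.symm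

theorem two_local {K : Type} [Field K] [Fintype K] (hK : Fintype.card K = 2 ^ 3)
    (P : Subgroup ↥(twistedD4 K 2)) (hP : IsPGroup 2 P) (hP1 : P ≠ ⊥)
    (Y : Subgroup ↥(twistedD4 K 2)) (hY : Y ≤ Subgroup.normalizer (P : Set ↥(twistedD4 K 2))) :
    (∃ m, Nat.card Y ∣ 2 ^ m * 63) ∧
      ∀ x ∈ Y, orderOf x = 7 → ∃ z : ↥(twistedD4 K 2), orderOf z = 2 ∧ z * x = x * z := by
  classical
  have hq : IsPrimePow 2 := Nat.prime_two.isPrimePow
  have i2 : Fact (Nat.Prime 2) := ⟨Nat.prime_two⟩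
  have i7 : Fact (Nat.Prime 7) := ⟨by norm_num⟩
  have hch : CharP K 2 := by
    obtain ⟨r, hr⟩ := CharP.exists K
    have hrp : r.Prime := CharP.char_is_prime K r
    obtain ⟨m, -, hm⟩ := FiniteField.card K r
    rw [hK] at hm
    have : 2 = r := by
      have h1 : 2 ∣ r ^ (m : ℕ) := by rw [← hm]; exact dvd_pow_self 2 (by omega)
      exact (Nat.prime_dvd_prime_iff_eq Nat.prime_two hrp).1 (Nat.prime_two.dvd_of_dvd_pow h1)
    rw [this]; exact hr
  have hTfin : Finite ↥(twistedD4 K 2) := inferInstance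
  obtain ⟨φ, hφ⟩ := D4Fixed.exists_frob hq hK
  have hle := D4Fixed.twisted_le_fix hK hφ
  let cs := CoxeterMatrix.G₂.toCoxeterSystem
  have hW : Finite CoxeterMatrix.G₂.Group := Cfsg.Agent.Nodes.RGDFold.finite_W
    (hp := Cfsg.Agent.Nodes.RGDTwD4.hp) cs isCartan foldData
  have R := rgd cs hK hφ 2
  have c0 := card_X0 hφ hle hq.two_le hK
  have c1 := card_X1 (K := K) hφ hle
  rw [hK] at c1
  have hBT : KFacts.RgdCharP.BT cs isCartan 2 _ (X φ 2) :=
    fun K' hK' hK1 => KFacts.RgdFilt.borel_tits_of_filt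
      (KFacts.RgdFiltTwAll.filt_fold cs isCartan foldData (foldGrp hφ hle) 2) (G1_eq_top cs hK hφ) hK' hK1
  obtain ⟨m, hm⟩ := IsPGroup.iff_card.1 R.isPGroup_Upos
  have hT : Nat.card ↥(T K 2) = 7 := by
    have h1 := Cfsg.Agent.S1106.result hq hK
    have h2 : Nat.card ↥(T K 2) = (2 - 1) ^ 2 * (2 ^ 2 + 2 + 1) := by
      rw [← h1]
      exact Nat.card_congr (Subgroup.subgroupOfEquivOfLe inf_le_right).toEquiv
    exact h2.trans (by norm_num)
  have hPJ : ∀ j : Fin 2, Nat.card ↥(PJ cs isCartan (T K 2) (X φ 2) {j}) =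
      (1 + Nat.card (X φ 2 (sr j))) * (2 ^ m * 7) := by
    intro j
    rw [card_PJ_path R (J := {j}) (c := fun _ => j) (m := 1) (y := Nat.card (X φ 2 (sr j)))
      ⟨fun t ht => rfl, fun t ht => by omega, fun s t h1 h2 => by omega, fun i hi h1 => by
        exact absurd (Set.mem_singleton_iff.1 hi).symm (h1 0 (by norm_num)), fun s hs t ht _ => by omega⟩
      (fun t _ => rfl)]
    have h1 : ({j} : Set (Fin 2)) \ {i | ∃ t < 1, (fun _ : ℕ => j) t = i} = ∅ := by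
      ext i
      simp only [Set.mem_sdiff, Set.mem_singleton_iff, Set.mem_ofPred_eq, Set.mem_empty_iff_false, iff_false,
        not_and, not_not]
      rintro rfl
      exact ⟨0, by norm_num, rfl⟩
    rw [h1, Cfsg.Agent.H35.Poin.PJ_empty, card_B' R, hm, hT]
    simp [Finset.sum_range_succ]
  obtain ⟨g, J, hJ, hKV, hNP⟩ := hBT P hP hP1
  obtain ⟨i, hi⟩ := (Set.ne_univ_iff_exists_notMem _).1 hJ
  have hJi : J ⊆ {i}ᶜ := fun j hj => by
    rw [Set.mem_compl_iff, Set.mem_singleton_iff]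
    rintro rfl
    exact hi hj
  have h1 : Y ≤ cj g (PJ cs isCartan (T K 2) (X φ 2) {i}ᶜ) := hY.trans (hNP.trans (cj_mono g (PJ_mono hJi)))
  have hcompl : ∃ j : Fin 2, ({i}ᶜ : Set (Fin 2)) = {j} := by
    fin_cases i
    · refine ⟨1, ?_⟩
      ext k
      fin_cases k <;> simp
    · refine ⟨0, ?_⟩
      ext k
      fin_cases k <;> simp
  obtain ⟨j, hj⟩ := hcompl
  rw [hj] at h1
  have h3 : 1 + Nat.card (X φ 2 (sr j)) ∣ 9 := by
    fin_cases j
    · show 1 + Nat.card (X φ 2 (sr 0)) ∣ _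
      rw [c0]
      norm_num
    · show 1 + Nat.card (X φ 2 (sr 1)) ∣ _
      rw [c1]
      norm_num
  have hPd : Nat.card ↥(PJ cs isCartan (T K 2) (X φ 2) {j}) ∣ 2 ^ m * 63 := by
    rw [hPJ j]
    obtain ⟨s, hs⟩ := h3
    refine ⟨s, ?_⟩
    calc 2 ^ m * 63 = 2 ^ m * 7 * 9 := by ring
      _ = _ := by rw [hs]; ring
  constructor
  · refine ⟨m, (Subgroup.card_dvd_of_le h1).trans ?_⟩
    rw [Cfsg.Agent.Nodes.CardSup.card_cj]
    exact hPd
  · intro x hx hxo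
    set P' := PJ cs isCartan (T K 2) (X φ 2) {j} with hP'
    have hTP : T K 2 ≤ P' := T_le_LJ.trans LJ_le_PJ
    have hx' : g⁻¹ * x * g ∈ P' := by
      have := h1 hx
      rwa [mem_cj] at this
    -- the torus is a Sylow 7-subgroup of `P'`
    have hTc : Nat.card ((T K 2).subgroupOf P') = 7 := by
      rw [Nat.card_congr (Subgroup.subgroupOfEquivOfLe hTP).toEquiv, hT]
    have hTp : IsPGroup 7 ((T K 2).subgroupOf P') := IsPGroup.of_card (n := 1) (by rw [hTc, pow_one])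
    have hTi : ¬ 7 ∣ ((T K 2).subgroupOf P').index := by
      intro h
      have h4 := ((T K 2).subgroupOf P').card_mul_index
      rw [hTc] at h4
      have h5 : 7 * 7 ∣ 2 ^ m * 63 := by
        refine dvd_trans ?_ hPd
        rw [← h4]
        exact Nat.mul_dvd_mul_left 7 h
      have h6 : 7 * 7 ∣ 63 :=
        (Nat.Coprime.pow_right m (by norm_num : Nat.Coprime (7 * 7) 2)).dvd_of_dvd_mul_left h5
      norm_num at h6
    have hx7 : (g⁻¹ * x * g) ^ 7 = 1 := by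
      have e : (g⁻¹ * x * g) ^ 7 = g⁻¹ * x ^ 7 * g := by
        have := conj_pow (a := g⁻¹) (b := x) (i := 7)
        rwa [inv_inv] at this
      rw [e, ← hxo, pow_orderOf_eq_one]
      group
    obtain ⟨c, hc⟩ := conj_into hTp hTi (x := (⟨g⁻¹ * x * g, hx'⟩ : P')) (k := 1)
      (Subtype.ext (by rw [pow_one]; exact hx7))
    have hc' : (c : ↥(twistedD4 K 2)) * (g⁻¹ * x * g) * (c : ↥(twistedD4 K 2))⁻¹ ∈ T K 2 :=
      Subgroup.mem_subgroupOf.1 hc
    -- an involution commuting with the torus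
    have hX0 : Nat.card (X φ 2 (sr 0)) = 2 := c0
    obtain ⟨z, hz, hXz⟩ := exists_zpowers Nat.prime_two hX0
    have hzt : ∀ t ∈ T K 2, t * z = z * t := by
      intro t ht
      have h4 := R.tor _ (isRoot_sr cs isCartan 0) t ht
      have h5 : t * z * t⁻¹ ∈ X φ 2 (sr 0) := by
        rw [← h4, mem_cj]
        have e : t⁻¹ * (t * z * t⁻¹) * t = z := by group
        rw [e, hXz]
        exact Subgroup.mem_zpowers z
      rw [hXz] at h5
      exact comm_of_two hz h5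
    have h4 := hzt _ hc'
    refine ⟨(g * (c : ↥(twistedD4 K 2))⁻¹) * z * (g * (c : ↥(twistedD4 K 2))⁻¹)⁻¹,
      (Cfsg.Agent.H439.Der.orderOf_conj _ _).trans hz, ?_⟩
    have e1 : (g * (c : ↥(twistedD4 K 2))⁻¹) * z * (g * (c : ↥(twistedD4 K 2))⁻¹)⁻¹ * x =
        g * (c : ↥(twistedD4 K 2))⁻¹ * (z * (c * (g⁻¹ * x * g) * (c : ↥(twistedD4 K 2))⁻¹)) * c * g⁻¹ := by group
    have e2 : x * ((g * (c : ↥(twistedD4 K 2))⁻¹) * z * (g * (c : ↥(twistedD4 K 2))⁻¹)⁻¹) =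
        g * (c : ↥(twistedD4 K 2))⁻¹ * ((c * (g⁻¹ * x * g) * (c : ↥(twistedD4 K 2))⁻¹) * z) * c * g⁻¹ := by group
    rw [e1, e2, h4]

end Cfsg.Agent.H788.Der.DTwo
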