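import Cfsg.Agent.H788.Der.DTwoCtx
import Cfsg.Agent.H788.Der.NtcRows
import Cfsg.Agent.H394.Der.NscD4

/-!
# `³D₄(2)` in S3500 and S3502 (helper788)

* `threeT_of_exact` : three classes of elements of prime order from a cyclic torus;
* `row_d4_two`, `rowW_d4_two` : the rows; the input is `PGap` for the proper subgroups.
-/

set_option autoImplicit false

namespace Cfsg.Agent.H788.Der

open Subgroup Cfsg Cfsg.Lie Cfsg.Agent.OrdDiv Cfsg.Agent.H439.Der Cfsg.Agent.H938.Sax Cfsg.Agent.H129.CycT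
  Cfsg.Agent.H394.Der

theorem threeT_of_exact {T : Type*} [Group T] [Finite T] {v K m : ℕ} (hv : v.Prime) (h : CycExact T v)
    (hK : Nat.card T = v * K) (hm : K ≡ m [MOD v]) (hm0 : 0 < m) (hmv : 2 * m < v - 1) {M : Subgroup T}
    (hM : ¬ v ∣ Nat.card M) : ThreeT T M := by
  classical
  have := Fact.mk hv
  obtain ⟨x, hx⟩ := exists_prime_orderOf_dvd_card' v (hK ▸ dvd_mul_right v K : v ∣ Nat.card T)
  have h1 : ∀ y : T, orderOf y = v → Nat.card (conjPow y) = m := fun y hy =>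
    Cfsg.Agent.H394.Der.card_conjPow hv h hK hm hm0 (by omega) hy
  -- the nontrivial elements of `⟨x⟩`
  have hP : Nat.card ({y | y ∈ zpowers x ∧ y ≠ 1} : Set T) = v - 1 := by
    have := Fintype.ofFinite T
    have h2 : ({y | y ∈ zpowers x ∧ y ≠ 1} : Set T) = ↑(((Finset.univ.filter fun y => y ∈ zpowers x).erase 1)) := by
      ext y
      simp only [Set.mem_ofPred_eq, Finset.coe_erase, Finset.coe_filter, Finset.mem_univ, true_and, Set.mem_sdiff,
        Set.mem_singleton_iff]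
    rw [h2, Nat.card_coe_set_eq, Set.ncard_coe_finset, Finset.card_erase_of_mem (by simp), ← hx, ← Nat.card_zpowers,
      Nat.card_eq_fintype_card, Fintype.card_subtype]
  have hord : ∀ y, y ∈ zpowers x → y ≠ 1 → orderOf y = v := by
    intro y hy hy1
    have h2 : orderOf y ∣ v := by rw [← hx]; exact orderOf_dvd_of_mem_zpowers hy
    rcases (Nat.dvd_prime hv).1 h2 with h3 | h3
    · exact absurd (orderOf_eq_one_iff.1 h3) hy1
    · exact h3
  have hzp : ∀ y, y ∈ zpowers x → y ≠ 1 → zpowers y = zpowers x := by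
    intro y hy hy1
    refine Subgroup.eq_of_le_of_card_ge (zpowers_le.2 hy) ?_
    rw [Nat.card_zpowers, Nat.card_zpowers, hx, hord y hy hy1]
  have key : ∀ y : T, orderOf y = v → ∃ z, z ∈ ({y | y ∈ zpowers x ∧ y ≠ 1} : Set T) ∧ z ∉ conjPow x ∧ z ∉ conjPow y := by
    intro y hy
    by_contra hcon
    push Not at hcon
    have h2 : ({y | y ∈ zpowers x ∧ y ≠ 1} : Set T) ⊆ conjPow x ∪ conjPow y := by
      intro z hz
      by_cases h3 : z ∈ conjPow x
      · exact Or.inl h3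
      · exact Or.inr (hcon z hz h3)
    have h3 := Nat.card_mono (Set.toFinite (conjPow x ∪ conjPow y)) h2
    have h4 := Set.ncard_union_le (conjPow x) (conjPow y)
    rw [Nat.card_coe_set_eq (conjPow x ∪ conjPow y)] at h3
    rw [← Nat.card_coe_set_eq, ← Nat.card_coe_set_eq (conjPow x), ← Nat.card_coe_set_eq (conjPow y), h1 x hx, h1 y hy,
      Nat.card_coe_set_eq] at h4
    rw [hP] at h3
    omega
  obtain ⟨y, ⟨hy, hy1⟩, hyx, -⟩ := key x hx
  obtain ⟨z, ⟨hz, hz1⟩, hzx, hzy⟩ := key y (hord y hy hy1)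
  refine ⟨x, y, z, fun g => ?_, fun g => ?_, fun g => ?_, fun g hg => hyx ⟨hy, g, hg⟩, fun g hg => hzx ⟨hz, g, hg⟩,
    fun g hg => hzy ⟨by rw [hzp y hy hy1]; exact hz, g, hg⟩⟩
  · exact not_mem_of_dvd hM (by rw [hx]) (MulAut.conj g)
  · exact not_mem_of_dvd hM (by rw [hord y hy hy1]) (MulAut.conj g)
  · exact not_mem_of_dvd hM (by rw [hord z hz hz1]) (MulAut.conj g)

section rows

variable (Tb : OrderTable.{0}) (hS : ∀ (S : Type) [Group S] [Finite S] [IsSimpleGroup S], IsKnownSimple' S)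
  {K : Type} [Field K] [Fintype K] (hK : Fintype.card K = 8)
  (hG : ∀ R : Subgroup ↥(twistedD4 K 2), R ≠ ⊤ → PGap ↥(twistedD4 K 2) R)

include Tb hS hK hG

/-- **The proper subgroups of `³D₄(2)`** -/
theorem fin_d4_two {R : Subgroup ↥(twistedD4 K 2)} (hR : R ≠ ⊤) :
    Three ↥(twistedD4 K 2) R ∨
      (ThreeT ↥(twistedD4 K 2) R ∧ Two ↥(twistedD4 K 2) R ∧ NoOne ↥(twistedD4 K 2) R) := by
  have C := DTwo.ctx hK
  have hfin := C.fin
  have hq : IsPrimePow 2 := Nat.prime_two.isPrimePow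
  have hK3 : Fintype.card K = 2 ^ 3 := by rw [hK]; norm_num
  have i3 : Fact (Nat.Prime 3) := ⟨Nat.prime_three⟩
  have i2 : Fact (Nat.Prime 2) := ⟨Nat.prime_two⟩
  have i13 : Fact (Nat.Prime 13) := ⟨by norm_num⟩
  have near : ∀ v : ℕ, v.Prime → v ∣ 504 → ¬ v ∣ Nat.card R → Three ↥(twistedD4 K 2) R := by
    intro v hv hd hvR
    have := Fact.mk hv
    have hvT : v ∣ Nat.card ↥(twistedD4 K 2) := by
      rw [C.card]
      exact hd.trans (by norm_num)
    obtain ⟨x, hx⟩ := exists_prime_orderOf_dvd_card' v hvT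
    exact Three.of_not_dvd hvR (not_SCC_d4_near hq hK3 hv (by norm_num; exact hd)) ⟨x, by rw [hx]⟩
  by_cases h2 : 2 ∣ Nat.card R
  swap
  · exact Or.inl (near 2 Nat.prime_two (by norm_num) h2)
  by_cases h3 : 3 ∣ Nat.card R
  swap
  · exact Or.inl (near 3 Nat.prime_three (by norm_num) h3)
  by_cases h7 : 7 ∣ Nat.card R
  swap
  · exact Or.inl (near 7 (by norm_num) (by norm_num) h7)
  have h13 : ¬ 13 ∣ Nat.card R := by
    obtain ⟨v, hv, hvT, hvR⟩ := hG R hR
    rw [C.card] at hvT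
    have h1 : v ∣ 2 ^ 12 * (3 ^ 4 * (7 ^ 2 * 13)) := hvT.trans (by norm_num)
    rcases hv.dvd_mul.1 h1 with h | h
    · exact absurd ((Nat.prime_dvd_prime_iff_eq hv Nat.prime_two).1 (hv.dvd_of_dvd_pow h) ▸ h2) hvR
    rcases hv.dvd_mul.1 h with h | h
    · exact absurd ((Nat.prime_dvd_prime_iff_eq hv Nat.prime_three).1 (hv.dvd_of_dvd_pow h) ▸ h3) hvR
    rcases hv.dvd_mul.1 h with h | h
    · exact absurd ((Nat.prime_dvd_prime_iff_eq hv (by norm_num)).1 (hv.dvd_of_dvd_pow h) ▸ h7) hvR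
    · rw [← (Nat.prime_dvd_prime_iff_eq hv (by norm_num)).1 h]
      exact hvR
  obtain ⟨⟨z, hz, hzR⟩, h81⟩ := C.main Tb hS h7 h13
  right
  refine ⟨?_, ?_, ?_⟩
  · have hx : CycExact ↥(twistedD4 K 2) 13 := by
      have := exact_tD4_12 hq hK3 (N := 13) (by norm_num)
      exact this
    refine threeT_of_exact (K := 16257024) (m := 4) (by norm_num) hx (by rw [C.card]) (by decide) (by norm_num)
      (by norm_num) h13
  · obtain ⟨x, hx⟩ := exists_prime_orderOf_dvd_card' 13 (G := ↥(twistedD4 K 2)) (by rw [C.card]; norm_num)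
    refine ⟨x, z, not_mem_of_dvd h13 (by rw [hx]), hzR, fun φ hφ => hz ?_⟩
    rw [← hφ, orderOf_mulEquiv, hx]
  · intro s hs hd h1
    have hO : Nat.card (Out ↥(twistedD4 K 2)) = 3 := by
      have hch : CharP K 2 := by
        obtain ⟨r, hr⟩ := CharP.exists K
        have hrp : r.Prime := CharP.char_is_prime K r
        obtain ⟨m, -, hm⟩ := FiniteField.card K r
        rw [hK3] at hm
        have : 2 = r := by
          have h1 : 2 ∣ r ^ (m : ℕ) := by rw [← hm]; exact dvd_pow_self 2 (by omega)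
          exact (Nat.prime_dvd_prime_iff_eq Nat.prime_two hrp).1 (Nat.prime_two.dvd_of_dvd_pow h1)
        rw [this]; exact hr
      have := S2129.result (K := K) 2 1 (by rw [hK3]) le_rfl
      rwa [pow_one] at this
    rw [hO] at hd
    have hs3 := (Nat.prime_dvd_prime_iff_eq hs Nat.prime_three).1 hd
    subst hs3
    have h2 : ¬ 3 ∣ R.index := by
      intro h
      have := (Nat.modEq_zero_iff_dvd.2 h).symm.trans h1
      exact absurd this (by decide)
    apply h81
    have h4 := R.card_mul_index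
    rw [C.card] at h4
    have h5 : 3 ^ 4 ∣ Nat.card R * R.index := by rw [h4]; norm_num
    have h6 : Nat.Coprime (3 ^ 4) R.index :=
      Nat.Coprime.pow_left 4 ((Nat.Prime.coprime_iff_not_dvd Nat.prime_three).2 h2)
    exact h6.dvd_of_dvd_mul_right h5

/-- **the row of S3500** -/
theorem row_d4_two : Row ↥(twistedD4 K 2) := fun M hM => Or.inl <| by
  rcases fin_d4_two Tb hS hK hG hM.1 with h | ⟨-, h, -⟩
  · exact h.two
  · exact h

/-- **the row of S3502** -/
theorem rowW_d4_two : RowW ↥(twistedD4 K 2) := by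
  refine ⟨Or.inl fun M hM => ?_, fun R hR _ => ?_⟩
  · rcases fin_d4_two Tb hS hK hG hM.1 with h | ⟨-, h, -⟩
    · exact h.two
    · exact h
  · rcases fin_d4_two Tb hS hK hG hR with h | ⟨h1, h2, h3⟩
    · exact Or.inl h
    · exact Or.inr ⟨h1, h2, Or.inl h3⟩

end rows

end Cfsg.Agent.H788.Der
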