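import Cfsg.Agent.H788.Der.OmNtc
import Cfsg.Agent.H997.PF.RowsCl

/-!
# `RowS` for `PΩ⁻_8(3)` (helper788, S3502)

* `rowS_o8m3`
-/

set_option autoImplicit false

namespace Cfsg.Agent.H788.Der

open Cfsg Cfsg.Agent.OrdDiv Cfsg.Agent.H439.Der
open Cfsg.Agent.H278.El.Asm (Kn)
open Cfsg.Agent.H997.PF (ominus_main)

/-- **`PΩ⁻_8(3)`** -/
theorem rowS_o8m3 (tab : OrderTable.{0}) (hK : Kn) {F : Type} [Field F] [Fintype F] (hF : Fintype.card F = 3)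
    {a b : F} (hab : ∀ z₁ z₂ : F, z₁ ^ 2 + a * z₁ * z₂ + b * z₂ ^ 2 = 0 → z₁ = 0 ∧ z₂ = 0) :
    RowS (POmega F (quadFormMinus 3 F a b)) := by
  have hfin : Finite (POmega F (quadFormMinus 3 F a b)) := Quotient.finite _
  exact RowS.of_pgap (Cfsg.Agent.H320.Der.ntc_of_th fun v hv hd => Om.th_o8m3 hF hab hv hd) fun M hM =>
    ominus_main (m := 4) tab hK le_rfl hab hM.1

end Cfsg.Agent.H788.Der
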