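import Cfsg.Agent.H831.DSpec

/-!
# Elements of order 3 and 7 of the group `Gam ≅ ³D₄(2)`: linear algebra (helper788)
-/

set_option autoImplicit false
set_option maxRecDepth 100000

namespace Cfsg.Agent.H788.Der.DTwo

open Cfsg.Agent.TypeD4Two Cfsg.Agent.H831.DCode Cfsg.Agent.H831.DGrp Cfsg.Agent.H831.DDick
  Cfsg.Agent.H831.DFix Cfsg.Agent.H831.DWord Cfsg.Agent.H831.DDiag Cfsg.Agent.H831.DSyl Cfsg.Agent.H831.DFact
  Cfsg.Agent.H831.DJord Cfsg.Agent.H831.DSpec Module

theorem chkB : ∀ i < 7, ∀ j < 7, (i = 0 ∧ j = 0) ∨ Fintype.card {k : Fin 8 // ev i j k = 1} ≠ 0 ∨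
    (4 ≤ Fintype.card {c : F8 // Fintype.card {k : Fin 8 // ev i j k = c} % 2 = 1} ∧
      ∑ k : Fin 8, ev i j k ≠ ∑ k : Fin 8, ev i j k ^ 2 ∧ ∑ k : Fin 8, ev i j k ≠ ∑ k : Fin 8, ev i j k ^ 4) := by
  decide +kernel

theorem chkU : ∀ k : Fin 8, ev 0 1 k = 1 ∨ ∀ l, l ≠ k → ev 0 1 l ≠ ev 0 1 k := by decide +kernel

/-- fixed points of maps of 3-power order -/
theorem card_fix_mod {α : Type*} [Finite α] {n : ℕ} (f : α → α) (hf : ∀ a, f^[3 ^ n] a = a) :
    Nat.card α ≡ Nat.card {a : α // f a = a} [MOD 3] := by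
  classical
  have i3 : Fact (Nat.Prime 3) := ⟨Nat.prime_three⟩
  have := Fintype.ofFinite α
  let g : Function.End α := f
  have hg : g ^ 3 ^ n = 1 := by
    funext a
    have h1 : (g ^ 3 ^ n) a = f^[3 ^ n] a := by
      generalize 3 ^ n = m
      induction m generalizing a with
      | zero => rfl
      | succ m ih =>
        rw [pow_succ, Function.iterate_succ_apply]
        exact ih (f a)
    rw [h1, hf]
    rfl
  have h := Equiv.Perm.card_fixedPoints_modEq (p := 3) (n := n) hg
  rw [Nat.card_eq_fintype_card, Nat.card_eq_fintype_card]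
  refine h.trans ?_
  rw [Fintype.card_congr (Equiv.refl _)]
  rfl

theorem card_eig (b : Basis (Fin 8) F8 V) {x : GG} {lam : Fin 8 → F8} (hx : ∀ k, le x (b k) = lam k • b k) (c : F8) :
    Nat.card {v : V // le x v = c • v} = 8 ^ Fintype.card {k : Fin 8 // lam k = c} := by
  let φ : {v : V // le x v = c • v} → ({k : Fin 8 // lam k = c} → F8) := fun v k => b.repr v.1 k.1
  have hφ : Function.Bijective φ := by
    constructor
    · intro v w h
      apply Subtype.ext
      apply b.repr.injective
      ext k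
      by_cases hk : lam k = c
      · exact congrFun h ⟨k, hk⟩
      · have h0 : ∀ u : V, le x u = c • u → b.repr u k = 0 := by
          intro u hu
          have h1 := coord_le b hx u k
          rw [hu, map_smul, Finsupp.smul_apply, smul_eq_mul] at h1
          have h2 : (lam k - c) * b.repr u k = 0 := by rw [sub_mul, h1, sub_self]
          exact (mul_eq_zero.1 h2).resolve_left (sub_ne_zero.2 hk)
        rw [h0 v.1 v.2, h0 w.1 w.2]
    · intro f
      let g : Fin 8 → F8 := fun k => if h : lam k = c then f ⟨k, h⟩ else 0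
      have hg : ∀ k, b.repr (b.equivFun.symm g) k = g k := by
        intro k
        rw [← Basis.equivFun_apply, LinearEquiv.apply_symm_apply]
      refine ⟨⟨b.equivFun.symm g, ?_⟩, ?_⟩
      · apply b.repr.injective
        ext k
        rw [coord_le b hx, map_smul, Finsupp.smul_apply, smul_eq_mul, hg]
        by_cases hk : lam k = c
        · rw [hk]
        · have : g k = 0 := dif_neg hk
          rw [this, mul_zero, mul_zero]
      · funext k
        show b.repr (b.equivFun.symm g) k.1 = f k
        rw [hg]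
        exact dif_pos k.2
  rw [Nat.card_congr (Equiv.ofBijective φ hφ), Nat.card_fun, Nat.card_eq_fintype_card (α := F8), F8.card_F8,
    Nat.card_eq_fintype_card]

theorem iter_le (a : GG) {α : Type*} (i : α → V) (f : α → α) (hf : ∀ v, i (f v) = le a (i v)) (m : ℕ) (v : α) :
    i (f^[m] v) = le (a ^ m) (i v) := by
  induction m generalizing v with
  | zero => rw [pow_zero, le_one]; rfl
  | succ m ih => rw [Function.iterate_succ_apply, ih, hf, pow_succ, le_mul_apply]

/-- common fixed eigenvectors -/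
theorem exists_fixed (b : Basis (Fin 8) F8 V) {x : GG} {lam : Fin 8 → F8} (hx : ∀ k, le x (b k) = lam k • b k) {c : F8}
    (hc : Fintype.card {k : Fin 8 // lam k = c} % 2 = 1) {y z : GG} {n : ℕ} (hy : y ^ 3 ^ n = 1) (hz : z ^ 3 ^ n = 1)
    (hxy : x * y = y * x) (hxz : x * z = z * x) (hyz : y * z = z * y) :
    ∃ v : V, v ≠ 0 ∧ le x v = c • v ∧ le y v = v ∧ le z v = v := by
  let α := {v : V // le x v = c • v}
  have hα : Nat.card α ≡ 2 [MOD 3] := by
    rw [card_eig b hx c]
    obtain ⟨m, hm⟩ : ∃ m, Fintype.card {k : Fin 8 // lam k = c} = 2 * m + 1 :=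
      ⟨Fintype.card {k : Fin 8 // lam k = c} / 2, by omega⟩
    rw [hm]
    have : ∀ m : ℕ, 8 ^ (2 * m + 1) % 3 = 2 := by
      intro m
      induction m with
      | zero => rfl
      | succ m ih => rw [show 2 * (m + 1) + 1 = (2 * m + 1) + 2 by ring, pow_add]; omega
    exact this m
  have hst : ∀ {w : GG}, x * w = w * x → ∀ v : V, le x v = c • v → le x (le w v) = c • le w v := by
    intro w hw v hv
    rw [← le_mul_apply, hw, le_mul_apply, hv, map_smul]
  let f : α → α := fun v => ⟨le y v.1, hst hxy v.1 v.2⟩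
  have hf : ∀ a, f^[3 ^ n] a = a := fun a => Subtype.ext (by
    rw [iter_le y (fun v : α => v.1) f (fun _ => rfl), hy, le_one])
  have h1 := (card_fix_mod f hf).symm.trans hα
  let β := {a : α // f a = a}
  have hβ : ∀ v : β, le y v.1.1 = v.1.1 := fun v => congrArg Subtype.val v.2
  let g : β → β := fun v => ⟨⟨le z v.1.1, hst hxz v.1.1 v.1.2⟩, Subtype.ext (by
    show le y (le z v.1.1) = le z v.1.1
    rw [← le_mul_apply, hyz, le_mul_apply, hβ v])⟩
  have hg : ∀ a, g^[3 ^ n] a = a := fun a => Subtype.ext (Subtype.ext (by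
    rw [iter_le z (fun v : β => v.1.1) g (fun _ => rfl), hz, le_one]))
  have h2 := (card_fix_mod g hg).symm.trans h1
  by_contra hcon
  push Not at hcon
  have h3 : Subsingleton {a : β // g a = a} := by
    have h4 : ∀ a : {a : β // g a = a}, a.1.1.1 = 0 := by
      intro a
      by_contra h0
      exact hcon a.1.1.1 h0 a.1.1.2 (hβ a.1) (congrArg (fun w : β => w.1.1) a.2)
    exact ⟨fun a a' => Subtype.ext (Subtype.ext (Subtype.ext (by rw [h4 a, h4 a'])))⟩
  have h4 : Nat.card {a : β // g a = a} ≤ 1 := Finite.card_le_one_iff_subsingleton.2 h3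
  have h5 : Nat.card {a : β // g a = a} % 3 = 2 := h2
  omega

/-- the common fixed space has dimension at least four -/
theorem four_le (b : Basis (Fin 8) F8 V) {x : GG} {lam : Fin 8 → F8} (hx : ∀ k, le x (b k) = lam k • b k)
    (h4 : 4 ≤ Fintype.card {c : F8 // Fintype.card {k : Fin 8 // lam k = c} % 2 = 1}) {y z : GG} {n : ℕ}
    (hy : y ^ 3 ^ n = 1) (hz : z ^ 3 ^ n = 1) (hxy : x * y = y * x) (hxz : x * z = z * x) (hyz : y * z = z * y) :
    4 ≤ finrank F8 ↥(fix (le y) ⊓ fix (le z)) := by
  classical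
  choose v hv0 hvx hvy hvz using fun c : {c : F8 // Fintype.card {k : Fin 8 // lam k = c} % 2 = 1} =>
    exists_fixed b hx c.2 hy hz hxy hxz hyz
  have h1 : LinearIndependent F8 v := Module.End.eigenvectors_linearIndependent' (fe x)
    (fun c : {c : F8 // Fintype.card {k : Fin 8 // lam k = c} % 2 = 1} => c.1) Subtype.val_injective v fun c =>
      ⟨Module.End.mem_eigenspace_iff.2 (hvx c), hv0 c⟩
  have h2 : LinearIndependent F8 (fun c : {c : F8 // Fintype.card {k : Fin 8 // lam k = c} % 2 = 1} =>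
      (⟨v c, hvy c, hvz c⟩ : ↥(fix (le y) ⊓ fix (le z)))) :=
    LinearIndependent.of_comp (fix (le y) ⊓ fix (le z)).subtype h1
  exact h4.trans h2.fintype_card_le_finrank

theorem two8 : (2 : F8) = 0 := by
  have := add_self8 1
  rw [← this]; norm_num

/-- commuting elements of order three with the same fixed space -/
theorem all_fixed {a b : GG} (ha : a ^ 3 = 1) (hb : b ^ 3 = 1) (hab : a * b = b * a) {F : Submodule F8 V}
    (h1 : fix (le a) ≤ F) (h2 : fix (le b) ≤ F) (h3 : fix (le (a * b)) ≤ F) (h4 : fix (le (a * b ^ 2)) ≤ F) (v : V) :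
    v ∈ F := by
  have hcube : ∀ {y : GG}, y ^ 3 = 1 → ∀ w : V, w + le y w + le y (le y w) ∈ fix (le y) := by
    intro y hy w
    rw [mem_fix', map_add, map_add]
    have : le y (le y (le y w)) = w := by
      rw [← le_mul_apply, ← le_mul_apply]
      have e : y * y * y = y ^ 3 := by rw [pow_succ, pow_two]
      rw [e, hy, le_one]
    rw [this]
    abel
  have hc : ∀ w : V, le a (le b w) = le b (le a w) := fun w => by
    rw [← le_mul_apply, hab, le_mul_apply]
  have hbb : ∀ w : V, le b (le b (le b w)) = w := by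
    intro w
    rw [← le_mul_apply, ← le_mul_apply]
    have e : b * b * b = b ^ 3 := by rw [pow_succ, pow_two]
    rw [e, hb, le_one]
  have hb2 : b ^ 2 = b * b := pow_two b
  have e3 : (a * b) ^ 3 = 1 := by rw [(show Commute a b from hab).mul_pow, ha, hb, one_mul]
  have e4 : (a * b ^ 2) ^ 3 = 1 := by
    have : Commute a (b ^ 2) := (show Commute a b from hab).pow_right 2
    rw [this.mul_pow, ha, ← pow_mul, mul_comm, pow_mul, hb, one_pow, one_mul]
  have m1 := h1 (hcube ha v)
  have m2 := h2 (hcube hb v)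
  have m3 := h3 (hcube e3 v)
  have m4 := h4 (hcube e4 v)
  have m5 := h1 (hcube ha (v + le b v + le b (le b v)))
  have hc' : ∀ w : V, le b (le a w) = le a (le b w) := fun w => (hc w).symm
  simp only [le_mul_apply, hb2, hc', hbb, map_add] at m1 m2 m3 m4 m5
  have key := F.add_mem (F.add_mem (F.add_mem (F.add_mem m1 m2) m3) m4) m5
  convert key using 1
  funext t
  simp only [Pi.add_apply]
  linear_combination (-2 * v t - le a v t - le a (le a v) t - le b v t - le b (le b v) t - le a (le b v) t
    - le a (le a (le b (le b v))) t - le a (le b (le b v)) t - le a (le a (le b v)) t) * two8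

end Cfsg.Agent.H788.Der.DTwo
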