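import Cfsg.Agent.H788.Der.DTwo

/-!
# Derangements of `³D₄(2)`: the subgroups of order prime to 13 (helper788)

`Ctx G` : the facts on `³D₄(2)` that are used; `Res R` : the conclusion; `Ctx.main`.
-/

set_option autoImplicit false

namespace Cfsg.Agent.H788.Der.DTwo

open Subgroup Cfsg Cfsg.Agent.OrdDiv Cfsg.Agent.H439.Der Cfsg.Agent.H938.Sax Cfsg.Agent.H369.Socle

/-- the facts on `³D₄(2)` that are used -/
structure Ctx (G : Type) [Group G] : Prop where
  fin : Finite G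
  card : Nat.card G = 211341312
  two : ∀ P Y : Subgroup G, IsPGroup 2 P → P ≠ ⊥ → Y ≤ normalizer (P : Set G) →
    (∃ m, Nat.card Y ∣ 2 ^ m * 63) ∧ ∀ x ∈ Y, orderOf x = 7 → ∃ z : G, orderOf z = 2 ∧ z * x = x * z
  nine : ∀ x : G, orderOf x = 7 → ¬ 9 ∣ Nat.card (normalizer (zpowers x : Set G))
  exp7 : ∀ x : G, x ^ 49 = 1 → x ^ 7 = 1
  dt : ∃ u : G, orderOf u = 7 ∧ ∀ z : G, z * u = u * z → orderOf z ≠ 2 ∧ orderOf z ≠ 3
  e8 : ∃ x : G, orderOf x = 8
  e9 : ∃ x : G, orderOf x = 9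

/-- the conclusion: a missing class of elements of order prime to 13, and no Sylow 3-subgroup of `G` -/
def Res {G : Type} [Group G] (R : Subgroup G) : Prop :=
  (∃ z : G, ¬ 13 ∣ orderOf z ∧ ∀ φ : G ≃* G, φ z ∉ R) ∧ ¬ 81 ∣ Nat.card R

namespace Ctx

variable {G : Type} [Group G] (C : Ctx G) {R P : Subgroup G}

include C

theorem res_of_not_nine (h : ¬ 9 ∣ Nat.card R) : Res R := by
  obtain ⟨z, hz⟩ := C.e9
  exact ⟨⟨z, by rw [hz]; norm_num, not_mem_of_dvd h (by rw [hz])⟩, fun h81 => h ((by norm_num : 9 ∣ 81).trans h81)⟩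

theorem missD (h : ∀ x ∈ R, orderOf x = 7 → ∃ z : G, (orderOf z = 2 ∨ orderOf z = 3) ∧ z * x = x * z) :
    ∃ z : G, ¬ 13 ∣ orderOf z ∧ ∀ φ : G ≃* G, φ z ∉ R := by
  obtain ⟨u, hu, hc⟩ := C.dt
  refine ⟨u, by rw [hu]; norm_num, fun φ hφ => ?_⟩
  obtain ⟨z, hz, hzu⟩ := h (φ u) hφ (by rw [orderOf_mulEquiv, hu])
  have h1 := hc (φ.symm z) (by
    apply φ.injective
    rw [map_mul, map_mul, φ.apply_symm_apply]
    exact hzu)
  rw [orderOf_mulEquiv] at h1
  rcases hz with h | h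
  · exact h1.1 h
  · exact h1.2 h

theorem of_two (hP : IsPGroup 2 P) (hP1 : P ≠ ⊥) (hR : R ≤ normalizer (P : Set G)) : Res R := by
  obtain ⟨⟨m, hm⟩, h2⟩ := C.two P R hP hP1 hR
  refine ⟨C.missD fun x hx ho => ?_, fun h81 => ?_⟩
  · obtain ⟨z, hz, hc⟩ := h2 x hx ho
    exact ⟨z, Or.inl hz, hc⟩
  · have h1 : 81 ∣ 2 ^ m * 63 := h81.trans hm
    have h3 : 81 ∣ 63 := (Nat.Coprime.pow_right m (by norm_num : Nat.Coprime 81 2)).dvd_of_dvd_mul_left h1
    norm_num at h3

theorem of_seven (hP : IsPGroup 7 P) (hP1 : P ≠ ⊥) (hR : R ≤ normalizer (P : Set G)) : Res R := by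
  have := C.fin
  have i7 : Fact (Nat.Prime 7) := ⟨by norm_num⟩
  apply C.res_of_not_nine
  intro h9
  have h9' : 9 ∣ Nat.card (normalizer (P : Set G)) := h9.trans (card_dvd_of_le hR)
  obtain ⟨k, hk⟩ := IsPGroup.iff_card.1 hP
  have h1 : 7 ^ k ∣ 211341312 := by
    rw [← hk, ← C.card]
    exact Subgroup.card_subgroup_dvd_card P
  have h2 : k ≤ 2 := by
    by_contra h3
    have h4 : 7 ^ 3 ∣ 211341312 := (pow_dvd_pow 7 (by omega)).trans h1
    norm_num at h4
  have h3 : k ≠ 0 := by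
    rintro rfl
    rw [pow_zero, Subgroup.card_eq_one] at hk
    exact hP1 hk
  have h4 : k = 1 ∨ k = 2 := by omega
  rcases h4 with rfl | rfl
  · obtain ⟨x, hx, rfl⟩ := exists_zpowers i7.out (by rw [hk, pow_one])
    exact C.nine x hx h9'
  · exact nine_lines C.exp7 C.nine (by rw [hk]; norm_num) h9'

omit C in
theorem num_three {c n m t i : ℕ} (hc : c = 2 ^ i * 567) (h21 : m = 21 * t) (h3 : ¬ 9 ∣ m) (hn : n * m = c)
    (h7 : n ≡ 1 [MOD 7]) : False := by
  subst h21
  have h4 : ¬ 3 ∣ t := fun h => h3 (by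
    obtain ⟨s, rfl⟩ := h
    exact ⟨7 * s, by ring⟩)
  have h5 : n * t = 2 ^ i * 27 := by
    have : n * t * 21 = 2 ^ i * 27 * 21 := by
      calc n * t * 21 = n * (21 * t) := by ring
        _ = 2 ^ i * 567 := by rw [hn, hc]
        _ = _ := by ring
    exact Nat.eq_of_mul_eq_mul_right (by norm_num) this
  have h6 : t ∣ 2 ^ i := by
    have h7 : t ∣ 2 ^ i * 27 := ⟨n, by rw [← h5]; ring⟩
    refine Nat.Coprime.dvd_of_dvd_mul_right ?_ h7
    have h8 : Nat.Coprime t 3 := ((Nat.Prime.coprime_iff_not_dvd Nat.prime_three).2 h4).symm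
    exact Nat.Coprime.pow_right 3 h8
  obtain ⟨j, hj, rfl⟩ := (Nat.dvd_prime_pow Nat.prime_two).1 h6
  have h8 : n = 2 ^ (i - j) * 27 := by
    have h9 : n * 2 ^ j = 2 ^ (i - j) * 27 * 2 ^ j := by
      rw [h5]
      have : 2 ^ i = 2 ^ (i - j) * 2 ^ j := by rw [← pow_add]; congr 1; omega
      rw [this]; ring
    exact Nat.eq_of_mul_eq_mul_right (by positivity) h9
  rw [h8] at h7
  unfold Nat.ModEq at h7
  have h9 : ∀ l : ℕ, 2 ^ l % 7 = 1 ∨ 2 ^ l % 7 = 2 ∨ 2 ^ l % 7 = 4 := by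
    intro l
    induction l with
    | zero => left; rfl
    | succ l ih => rw [pow_succ]; omega
  have h10 := h9 (i - j)
  rw [Nat.mul_mod] at h7
  rcases h10 with h10 | h10 | h10 <;> rw [h10] at h7 <;> exact absurd h7 (by decide)

theorem of_three (hP : IsPGroup 3 P) (hP1 : P ≠ ⊥) (hPR : P ≤ R) (hR : R ≤ normalizer (P : Set G))
    (h7 : 7 ∣ Nat.card R) (h13 : ¬ 13 ∣ Nat.card R) : Res R := by
  classical
  have := C.fin
  have i3 : Fact (Nat.Prime 3) := ⟨Nat.prime_three⟩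
  have i7 : Fact (Nat.Prime 7) := ⟨by norm_num⟩
  obtain ⟨k, hk⟩ := IsPGroup.iff_card.1 hP
  have h1 : 3 ^ k ∣ 211341312 := by
    rw [← hk, ← C.card]
    exact Subgroup.card_subgroup_dvd_card P
  have h2 : k ≤ 4 := by
    by_contra h3
    have h4 : 3 ^ 5 ∣ 211341312 := (pow_dvd_pow 3 (by omega)).trans h1
    norm_num at h4
  have h3 : k ≠ 0 := by
    rintro rfl
    rw [pow_zero, Subgroup.card_eq_one] at hk
    exact hP1 hk
  -- elements of order 7 centralise `P`
  have hcen : ∀ x ∈ R, orderOf x = 7 → ∀ y ∈ P, y * x = x * y := fun x hx ho => centralizes hk h2 ho (hR hx)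
  have h3P : 3 ∣ Nat.card P := by
    rw [hk]
    exact dvd_pow_self 3 h3
  obtain ⟨z, hz⟩ := exists_prime_orderOf_dvd_card' 3 h3P
  have hz' : orderOf (z : G) = 3 := by rw [Subgroup.orderOf_coe, hz]
  refine ⟨C.missD fun x hx ho => ⟨z, Or.inr hz', hcen x hx ho z z.2⟩, fun h81 => ?_⟩
  -- `|P| = 3`
  obtain ⟨x0, hx0⟩ := exists_prime_orderOf_dvd_card' 7 h7
  have hx0' : orderOf (x0 : G) = 7 := by rw [Subgroup.orderOf_coe, hx0]
  have hcn : ∀ x : G, (∀ y ∈ P, y * x = x * y) → P ≤ normalizer (zpowers x : Set G) := by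
    intro x hx y hy
    apply mem_normalizer_of
    have : y * x * y⁻¹ = x := by rw [hx y hy, mul_inv_cancel_right]
    rw [this]
    exact mem_zpowers x
  have hk1 : k = 1 := by
    by_contra hk1
    apply C.nine x0 hx0'
    have h5 : 3 ^ 2 ∣ Nat.card P := by
      rw [hk]
      exact pow_dvd_pow 3 (by omega)
    exact (by norm_num : 9 ∣ 3 ^ 2).trans (h5.trans (card_dvd_of_le (hcn x0 (hcen x0 x0.2 hx0'))))
  subst hk1
  rw [pow_one] at hk
  -- the centralizer of `P` in `R`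
  have hcyc : IsCyclic P := isCyclic_of_prime_card hk
  have hPc : ∀ a ∈ P, ∀ b ∈ P, a * b = b * a := fun a ha b hb =>
    congrArg Subtype.val ((IsCyclic.isMulCommutative (α := P)).is_comm.comm ⟨a, ha⟩ ⟨b, hb⟩)
  set R1 : Subgroup G := R ⊓ centralizer (P : Set G) with hR1
  have hR1R : R1 ≤ R := inf_le_left
  have hPR1 : P ≤ R1 := le_inf hPR fun a ha => mem_centralizer_iff.2 fun b hb => hPc b hb a ha
  have h81' : 81 ∣ Nat.card R1 := by
    let f : R →* MulAut P := (P.normalizerMonoidHom).comp (Subgroup.inclusion hR)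
    have hf : f.ker = R1.subgroupOf R := by
      ext r
      rw [MonoidHom.mem_ker, mem_subgroupOf, hR1, Subgroup.mem_inf]
      constructor
      · intro h
        refine ⟨r.2, mem_centralizer_iff.2 fun y hy => ?_⟩
        have h4 : f r (⟨y, hy⟩ : P) = ⟨y, hy⟩ := by rw [h]; rfl
        have h5 : (r : G) * y * (r : G)⁻¹ = y := congrArg Subtype.val h4
        exact (mul_inv_eq_iff_eq_mul.1 h5).symm
      · rintro ⟨-, h⟩
        ext y
        show (r : G) * y * (r : G)⁻¹ = y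
        rw [← mem_centralizer_iff.1 h y y.2, mul_inv_cancel_right]
    have h5 : Nat.card R ∣ 2 * Nat.card R1 := by
      have h6 := Subgroup.card_mul_index f.ker
      rw [hf, Nat.card_congr (Subgroup.subgroupOfEquivOfLe hR1R).toEquiv] at h6
      rw [← h6, mul_comm]
      refine Nat.mul_dvd_mul_right ?_ _
      rw [← hf, Subgroup.index_ker]
      refine (Subgroup.card_subgroup_dvd_card _).trans ?_
      rw [IsCyclic.card_mulAut, hk]
      decide
    exact (Nat.Coprime.dvd_of_dvd_mul_left (by norm_num) (h81.trans h5))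
  -- the order of `R1`
  have hd : Nat.card R1 ∣ 2 ^ 12 * (81 * 49) := by
    have h5 : Nat.card R1 ∣ 2 ^ 12 * (81 * 49) * 13 := by
      have h6 := Subgroup.card_subgroup_dvd_card R1
      rw [C.card] at h6
      exact h6.trans (by norm_num)
    refine Nat.Coprime.dvd_of_dvd_mul_right ?_ h5
    refine ((Nat.Prime.coprime_iff_not_dvd (by norm_num)).2 fun h => h13 ?_).symm
    exact h.trans (card_dvd_of_le hR1R)
  have h49 : ¬ 49 ∣ Nat.card R1 := by
    intro h49
    obtain ⟨E0, hE0⟩ := Sylow.exists_subgroup_card_pow_prime 7 (n := 2) (G := R1) h49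
    set E : Subgroup G := E0.map R1.subtype with hE
    have hER : E ≤ R1 := map_subtype_le _
    have hEc : Nat.card E = 49 := by
      rw [hE, Nat.card_congr (Subgroup.equivMapOfInjective _ _ (Subgroup.subtype_injective _)).toEquiv.symm, hE0]
      norm_num
    have hEp : IsPGroup 7 E := IsPGroup.of_card (n := 2) (by rw [hEc]; norm_num)
    have hEi : ¬ 7 ∣ E.index := by
      intro h5
      have h6 := E.card_mul_index
      rw [hEc, C.card] at h6
      obtain ⟨s, hs⟩ := h5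
      rw [hs] at h6
      omega
    obtain ⟨u, hu, hcu⟩ := C.dt
    obtain ⟨g, hg⟩ := conj_into hEp hEi (x := u) (k := 1) (by rw [pow_one, ← hu]; exact pow_orderOf_eq_one u)
    have h5 := (hER hg).2
    have h6 := mem_centralizer_iff.1 h5 z z.2
    have h7 := hcu (g⁻¹ * z * g) (by
      have e1 : g⁻¹ * (z : G) * g * u = g⁻¹ * ((z : G) * (g * u * g⁻¹)) * g := by group
      have e2 : u * (g⁻¹ * (z : G) * g) = g⁻¹ * (g * u * g⁻¹ * (z : G)) * g := by group
      rw [e1, e2, h6])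
    apply h7.2
    have h8 := orderOf_conj g⁻¹ (z : G)
    rw [inv_inv] at h8
    rw [h8, hz']
  have hxR1 : ∀ x : R, orderOf (x : G) = 7 → (x : G) ∈ R1 := fun x hx =>
    ⟨x.2, mem_centralizer_iff.2 fun y hy => hcen x x.2 hx y hy⟩
  have h7R1 : 7 ∣ Nat.card R1 := by
    rw [← hx0', ← Subgroup.orderOf_mk _ (hxR1 x0 hx0')]
    exact orderOf_dvd_natCard _
  obtain ⟨i, hi⟩ : ∃ i, Nat.card R1 = 2 ^ i * 567 := by
    have h5 : 567 ∣ Nat.card R1 := (Nat.Coprime.mul_dvd_of_dvd_of_dvd (by norm_num : Nat.Coprime 81 7) h81' h7R1)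
    obtain ⟨c, hc⟩ := h5
    have h6 : c ∣ 2 ^ 12 * 7 := by
      rw [hc] at hd
      have : 567 * c ∣ 567 * (2 ^ 12 * 7) := hd.trans (by norm_num)
      exact Nat.dvd_of_mul_dvd_mul_left (by norm_num) this
    have h8 : ¬ 7 ∣ c := by
      rintro ⟨s, rfl⟩
      exact h49 ⟨81 * s, by rw [hc]; ring⟩
    have h9 : c ∣ 2 ^ 12 :=
      Nat.Coprime.dvd_of_dvd_mul_right ((Nat.Prime.coprime_iff_not_dvd (by norm_num)).2 h8).symm h6
    obtain ⟨j, -, rfl⟩ := (Nat.dvd_prime_pow Nat.prime_two).1 h9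
    exact ⟨j, by rw [hc, mul_comm]⟩
  -- the Sylow 7-subgroups of `R1`
  obtain ⟨S⟩ : Nonempty (Sylow 7 R1) := inferInstance
  have hSc : Nat.card (S : Subgroup R1) = 7 := by
    rw [Sylow.card_eq_multiplicity, hi]
    have h5 : (2 ^ i * 567 : ℕ).factorization 7 = 1 := by
      have e : (2 ^ i * 567 : ℕ) = 7 ^ 1 * (2 ^ i * 81) := by ring
      rw [e, Nat.factorization_mul (by norm_num) (by positivity), Finsupp.add_apply,
        Nat.Prime.factorization_pow (by norm_num), Finsupp.single_eq_same,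
        Nat.factorization_eq_zero_of_not_dvd]
      intro h6
      rcases (Nat.Prime.dvd_mul (by norm_num : Nat.Prime 7)).1 h6 with h7 | h7
      · have := (Nat.Prime.dvd_of_dvd_pow (by norm_num : Nat.Prime 7) h7)
        norm_num at this
      · norm_num at h7
    rw [h5, pow_one]
  obtain ⟨x, hx, hSx⟩ := exists_zpowers (by norm_num) hSc
  have hx' : orderOf (x : G) = 7 := by rw [Subgroup.orderOf_coe, hx]
  have hn1 : Nat.card (Sylow 7 R1) ≡ 1 [MOD 7] := card_sylow_modEq_one 7 R1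
  rw [Sylow.card_eq_index_normalizer S] at hn1
  set N : Subgroup R1 := normalizer ((S : Subgroup R1) : Set R1) with hN
  have hNc : N.map R1.subtype ≤ normalizer (zpowers (x : G) : Set G) := by
    rintro _ ⟨n, hn, rfl⟩
    apply mem_normalizer_of
    have h5 := (Subgroup.mem_normalizer_iff.1 hn x).1 (by rw [hSx]; exact mem_zpowers x)
    rw [hSx] at h5
    obtain ⟨j, hj⟩ := mem_zpowers_iff.1 h5
    exact mem_zpowers_iff.2 ⟨j, by simpa using congrArg Subtype.val hj⟩
  have hNcard : Nat.card (N.map R1.subtype) = Nat.card N :=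
    (Nat.card_congr (Subgroup.equivMapOfInjective _ _ (Subgroup.subtype_injective _)).toEquiv).symm
  have h9 : ¬ 9 ∣ Nat.card N := by
    rw [← hNcard]
    exact fun h => C.nine x hx' (h.trans (card_dvd_of_le hNc))
  have h21 : 21 ∣ Nat.card N := by
    refine Nat.Coprime.mul_dvd_of_dvd_of_dvd (by norm_num : Nat.Coprime 3 7) ?_ ?_
    · have h5 : P.subgroupOf R1 ≤ N := by
        intro y hy
        rw [hN, hSx]
        apply mem_normalizer_of
        have h6 : (x : G) * y = y * x := (mem_centralizer_iff.1 x.2.2 y hy).symm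
        have h7 : y * x * y⁻¹ = x := by
          rw [mul_inv_eq_iff_eq_mul]
          exact Subtype.ext h6.symm
        rw [h7]
        exact mem_zpowers x
      have h6 := card_dvd_of_le h5
      rwa [Nat.card_congr (Subgroup.subgroupOfEquivOfLe hPR1).toEquiv, hk] at h6
    · rw [← hSc]
      exact card_dvd_of_le le_normalizer
  obtain ⟨t, ht⟩ := h21
  exact num_three (c := Nat.card R1) (n := N.index) (m := Nat.card N) (t := t) (i := i) hi ht h9
    (by rw [mul_comm]; exact N.card_mul_index) hn1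

end Ctx

end Cfsg.Agent.H788.Der.DTwo
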