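import Cfsg.Agent.H439.Der.Three
import Cfsg.Agent.H439.Der.Tools
import Cfsg.Agent.H946.NormCard
import Cfsg.Agent.H129.CycCard
import Cfsg.Agent.H94.PrimeGraph

/-!
# Three classes of derangements: criteria for `¬ SCC` (helper788, task 2983)

* `not_SCC_of_two_adj` : two neighbours in the prime graph;
* `not_SCC_of_cyc` : a cyclic self-centralising subgroup with many `v`-singular elements;
* `not_SCC_of_cycCard` : the same from `CycCard T v N 1` and the order of `T`.
-/

set_option autoImplicit false

namespace Cfsg.Agent.H788.Der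

open Subgroup Cfsg.Agent.H439.Der Cfsg.Agent.H129.CycT Cfsg.Agent.H129.CycCard

/-- subgroups of the same order of a cyclic group -/
theorem eq_of_card_cyc {C : Type*} [Group C] [Finite C] [IsCyclic C] {H K : Subgroup C}
    (h : Nat.card H = Nat.card K) : H = K := by
  classical
  have := Fintype.ofFinite C
  have key : ∀ L : Subgroup C, Nat.card L = Nat.card H →
      (Finset.univ.filter fun x : C => x ∈ L) = Finset.univ.filter fun x : C => x ^ (Nat.card H) = 1 := by
    intro L hL
    refine Finset.eq_of_subset_of_card_le ?_ ?_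
    · intro x hx
      rw [Finset.mem_filter] at hx ⊢
      refine ⟨Finset.mem_univ _, ?_⟩
      rw [← orderOf_dvd_iff_pow_eq_one, ← hL]
      have := orderOf_dvd_natCard (⟨x, hx.2⟩ : L)
      rwa [Subgroup.orderOf_mk] at this
    · refine (IsCyclic.card_pow_eq_one_le Nat.card_pos).trans ?_
      rw [← hL, Nat.card_eq_fintype_card, Fintype.card_subtype]
  have h1 := (key H rfl).trans (key K h.symm).symm
  ext x
  have h2 := Finset.ext_iff.1 h1 x
  simpa using h2

variable {T : Type*} [Group T]

/-- two neighbours in the prime graph -/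
theorem not_SCC_of_two_adj [Finite T] {v w w' : ℕ} (h : Cfsg.Agent.H94.PG.Adj T v w) (h' : Cfsg.Agent.H94.PG.Adj T v w') (hw : w ≠ w') :
    ¬ SCC T v := by
  obtain ⟨hv, h1, hne, x, y, hx, hy, hc⟩ := h
  obtain ⟨-, h1', hne', x', y', hx', hy', hc'⟩ := h'
  have o1 : orderOf (x * y) = v * w := by
    rw [hc.orderOf_mul_eq_mul_orderOf_of_coprime (by rw [hx, hy]; exact (Nat.coprime_primes hv h1).2 hne), hx, hy]
  have o2 : orderOf (x' * y') = v * w' := by
    rw [hc'.orderOf_mul_eq_mul_orderOf_of_coprime (by rw [hx', hy']; exact (Nat.coprime_primes hv h1').2 hne'), hx', hy']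
  refine not_SCC_of_orders (x := x) (y := x * y) (z := x' * y') (by rw [hx]) (by rw [o1]; exact dvd_mul_right _ _)
    (by rw [o2]; exact dvd_mul_right _ _) ?_ ?_ ?_
  · rw [hx, o1]
    intro h
    have := hv.two_le
    have := h1.two_le
    nlinarith
  · rw [hx, o2]
    intro h
    have := hv.two_le
    have := h1'.two_le
    nlinarith
  · rw [o1, o2]
    exact fun h => hw (Nat.eq_of_mul_eq_mul_left hv.pos h)

/-- the conjugates of `z` by the normaliser of `C`, where `C` centralises `z` -/
theorem card_orbit_le [Finite T] {C : Subgroup T} {m : ℕ}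
    (hm : Nat.card (normalizer (C : Set T)) ≤ Nat.card C * m) {z : T} (hz : ∀ c ∈ C, c * z = z * c) :
    Nat.card ({w | ∃ g ∈ normalizer (C : Set T), g * z * g⁻¹ = w} : Set T) ≤ m := by
  classical
  set N := normalizer (C : Set T) with hN
  have hCN : C ≤ N := Subgroup.le_normalizer
  have h1 : Nat.card ({w | ∃ g ∈ N, g * z * g⁻¹ = w} : Set T) ≤ Nat.card (N ⧸ C.subgroupOf N) := by
    let f : (N ⧸ C.subgroupOf N) → ({w | ∃ g ∈ N, g * z * g⁻¹ = w} : Set T) :=
      Quotient.lift (fun g : N => (⟨(g : T) * z * (g : T)⁻¹, ⟨g, g.2, rfl⟩⟩ : ({w | ∃ g ∈ N, g * z * g⁻¹ = w} : Set T)))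
        (by
          intro a b hab
          have hab' : (QuotientGroup.mk a : N ⧸ C.subgroupOf N) = QuotientGroup.mk b := Quotient.sound hab
          rw [QuotientGroup.eq, Subgroup.mem_subgroupOf] at hab'
          apply Subtype.ext
          simp only
          have h2 := hz _ hab'
          simp only [Subgroup.coe_mul, Subgroup.coe_inv] at h2
          -- `a⁻¹ b z = z a⁻¹ b`
          have h3 : (b : T) * z = a * z * (a : T)⁻¹ * b := by
            have h4 : (a : T) * ((a : T)⁻¹ * b * z) = a * (z * ((a : T)⁻¹ * b)) := by rw [h2]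
            simpa [mul_assoc] using h4
          rw [h3]; group)
    refine Nat.card_le_card_of_surjective f ?_
    rintro ⟨w, g, hg, rfl⟩
    exact ⟨QuotientGroup.mk ⟨g, hg⟩, rfl⟩
  have h2 : Nat.card (N ⧸ C.subgroupOf N) * Nat.card C = Nat.card N := by
    rw [← Nat.card_congr (Subgroup.subgroupOfEquivOfLe hCN).toEquiv]
    exact (Subgroup.card_eq_card_quotient_mul_card_subgroup _).symm
  refine h1.trans ?_
  have h3 : 0 < Nat.card C := Nat.card_pos
  refine Nat.le_of_mul_le_mul_right ?_ h3
  rw [h2, mul_comm]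
  exact hm

/-- A cyclic subgroup containing the centralisers of its elements of order `v`. -/
theorem not_SCC_of_cyc [Finite T] {v : ℕ} (hv : v.Prime) {C : Subgroup T} (hcyc : IsCyclic C) (hvC : v ∣ Nat.card C)
    (hC : ∀ y ∈ C, orderOf y = v → centralizer {y} ≤ C) {m o : ℕ}
    (hm : Nat.card (normalizer (C : Set T)) ≤ Nat.card C * m) (hO : Nat.card (Cfsg.Out T) ≤ o)
    (h : 2 * (o * m) < Nat.card C - Nat.card C / v) : ¬ SCC T v := by
  classical
  have : Finite (MulAut T) := Finite.of_injective (fun f : MulAut T => (f : T → T)) DFunLike.coe_injective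
  have := Fintype.ofFinite T
  have := Fintype.ofFinite (Cfsg.Out T)
  rintro ⟨a, b, hab⟩
  let Z : Finset T := Finset.univ.filter fun z => z ∈ C ∧ v ∣ orderOf z
  -- the centraliser of an element of `Z` is `C`
  have hcomm : ∀ x ∈ C, ∀ y ∈ C, x * y = y * x := by
    intro x hx y hy
    let _ : CommGroup C := IsCyclic.commGroup
    exact congrArg Subtype.val (mul_comm (⟨x, hx⟩ : C) ⟨y, hy⟩)
  have hcent : ∀ z ∈ C, v ∣ orderOf z → centralizer ({z} : Set T) = C := by
    intro z hz hvz
    refine le_antisymm ?_ (fun c hc => mem_centralizer_singleton_iff.2 (hcomm c hc z hz))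
    have h1 : orderOf (z ^ (orderOf z / v)) = v := by
      obtain ⟨k, hk⟩ := hvz
      have hk0 : k ≠ 0 := by
        rintro rfl
        rw [mul_zero] at hk
        exact (orderOf_pos z).ne' hk
      rw [hk, Nat.mul_div_cancel_left k hv.pos, orderOf_pow_of_dvd hk0 (by rw [hk]; exact dvd_mul_left _ _), hk,
        Nat.mul_div_cancel _ (Nat.pos_of_ne_zero hk0)]
    refine le_trans ?_ (hC _ (pow_mem hz _) h1)
    intro c hc
    rw [mem_centralizer_singleton_iff] at hc ⊢
    exact (Commute.pow_right (show Commute c z from hc) _)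
  -- the size of `Z`
  have hZ : Nat.card C - Nat.card C / v ≤ Z.card := by
    have hCc : (Finset.univ.filter fun z : T => z ∈ C).card = Nat.card C := by
      rw [Nat.card_eq_fintype_card, Fintype.card_subtype]
    have h0 : 0 < Nat.card C / v := Nat.div_pos (Nat.le_of_dvd Nat.card_pos hvC) hv.pos
    have hsub : (Finset.univ.filter fun z : T => z ∈ C) ⊆
        Z ∪ (Finset.univ.filter fun z : C => z ^ (Nat.card C / v) = 1).map ⟨Subtype.val, Subtype.val_injective⟩ := by
      intro z hz
      rw [Finset.mem_filter] at hz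
      rw [Finset.mem_union]
      by_cases hvz : v ∣ orderOf z
      · left
        simp only [Z, Finset.mem_filter, Finset.mem_univ, true_and]
        exact ⟨hz.2, hvz⟩
      · right
        rw [Finset.mem_map]
        refine ⟨⟨z, hz.2⟩, ?_, rfl⟩
        rw [Finset.mem_filter]
        refine ⟨Finset.mem_univ _, ?_⟩
        apply Subtype.ext
        rw [Subgroup.coe_pow, Subgroup.coe_one, ← orderOf_dvd_iff_pow_eq_one]
        have h1 : orderOf z ∣ Nat.card C := by
          have := orderOf_dvd_natCard (⟨z, hz.2⟩ : C)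
          rwa [Subgroup.orderOf_mk] at this
        obtain ⟨k, hk⟩ := hvC
        rw [hk, Nat.mul_div_cancel_left k hv.pos]
        rw [hk] at h1
        exact (Nat.Coprime.dvd_mul_left ((Nat.Prime.coprime_iff_not_dvd hv).2 hvz).symm).1 h1
    have h2 := Finset.card_le_card hsub
    have h3 := h2.trans (Finset.card_union_le _ _)
    rw [Finset.card_map, hCc] at h3
    have h4 : (Finset.univ.filter fun z : C => z ^ (Nat.card C / v) = 1).card ≤ Nat.card C / v := by
      exact IsCyclic.card_pow_eq_one_le h0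
    omega
  -- the images of one element in `C`
  have key : ∀ a : T, (Z.filter fun z => ∃ φ : T ≃* T, φ a = z).card ≤ o * m := by
    intro a
    set A := Z.filter fun z => ∃ φ : T ≃* T, φ a = z with hA
    have hφ : ∀ z : T, ∃ φ : MulAut T, z ∈ A → φ a = z := by
      intro z
      by_cases hz : z ∈ A
      · rw [hA, Finset.mem_filter] at hz
        obtain ⟨φ, hφ⟩ := hz.2
        exact ⟨φ, fun _ => hφ⟩
      · exact ⟨1, fun h => absurd h hz⟩
    choose φ hφ using hφ
    have hAm : A.card ≤ m * (Finset.univ : Finset (Cfsg.Out T)).card := by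
      refine Finset.card_le_mul_card_image_of_maps_to (f := fun y => (QuotientGroup.mk (φ y) : Cfsg.Out T))
        (t := Finset.univ) (fun _ _ => Finset.mem_univ _) _ ?_
      intro c _
      rcases Finset.eq_empty_or_nonempty (A.filter fun y => (QuotientGroup.mk (φ y) : Cfsg.Out T) = c) with
        h0 | ⟨z0, hz0⟩
      · rw [h0]; exact Nat.zero_le _
      rw [Finset.mem_filter] at hz0
      have hz0Z : z0 ∈ C ∧ v ∣ orderOf z0 := by
        have := hz0.1
        rw [hA, Finset.mem_filter] at this
        simpa only [Z, Finset.mem_filter, Finset.mem_univ, true_and] using this.1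
      refine le_trans ?_ (card_orbit_le hm (z := z0) (fun c hc => hcomm c hc z0 hz0Z.1))
      rw [← Set.ncard_coe_finset, ← Nat.card_coe_set_eq]
      refine Nat.card_mono (Set.toFinite _) ?_
      intro z hz
      rw [Finset.mem_coe, Finset.mem_filter] at hz
      have hzZ : z ∈ C ∧ v ∣ orderOf z := by
        have := hz.1
        rw [hA, Finset.mem_filter] at this
        simpa only [Z, Finset.mem_filter, Finset.mem_univ, true_and] using this.1
      have h1 : (QuotientGroup.mk (φ z0) : Cfsg.Out T) = QuotientGroup.mk (φ z) := by rw [hz0.2, hz.2]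
      rw [QuotientGroup.eq] at h1
      obtain ⟨g, hg⟩ := h1
      have h2 : φ z a = φ z0 (g * a * g⁻¹) := by
        have : φ z = φ z0 * MulAut.conj g := by
          have hg' : MulAut.conj g = (φ z0)⁻¹ * φ z := hg
          rw [hg', mul_inv_cancel_left]
        rw [this]; rfl
      have h3 : φ z0 g * z0 * (φ z0 g)⁻¹ = z := by
        rw [← hφ z hz.1, h2, map_mul, map_mul, map_inv, hφ z0 hz0.1]
      refine ⟨φ z0 g, ?_, h3⟩
      -- `φ z0 g` normalises `C`
      have e0 := hcent z0 hz0Z.1 hz0Z.2
      have e1 := hcent z hzZ.1 hzZ.2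
      rw [Subgroup.mem_normalizer_iff]
      intro x
      rw [← e0]
      set t := φ z0 g with ht
      rw [mem_centralizer_singleton_iff]
      constructor
      · intro hx
        rw [e0, ← e1, mem_centralizer_singleton_iff, ← h3]
        calc t * x * t⁻¹ * (t * z0 * t⁻¹) = t * (x * z0) * t⁻¹ := by group
          _ = t * (z0 * x) * t⁻¹ := by rw [hx]
          _ = t * z0 * t⁻¹ * (t * x * t⁻¹) := by group
      · intro hx
        rw [e0, ← e1, mem_centralizer_singleton_iff, ← h3] at hx
        have h4 : t * (x * z0) * t⁻¹ = t * (z0 * x) * t⁻¹ := by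
          calc t * (x * z0) * t⁻¹ = t * x * t⁻¹ * (t * z0 * t⁻¹) := by group
            _ = t * z0 * t⁻¹ * (t * x * t⁻¹) := hx
            _ = t * (z0 * x) * t⁻¹ := by group
        exact mul_left_cancel (mul_right_cancel h4)
    have hOc : (Finset.univ : Finset (Cfsg.Out T)).card ≤ o := by
      rw [Finset.card_univ, ← Nat.card_eq_fintype_card]; exact hO
    calc A.card ≤ m * (Finset.univ : Finset (Cfsg.Out T)).card := hAm
      _ ≤ m * o := Nat.mul_le_mul_left m hOc
      _ = o * m := mul_comm _ _
  have hU : Z ⊆ (Z.filter fun z => ∃ φ : T ≃* T, φ a = z) ∪ Z.filter fun z => ∃ φ : T ≃* T, φ b = z := by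
    intro z hz
    rw [Finset.mem_union]
    have h1 := hz
    simp only [Z, Finset.mem_filter, Finset.mem_univ, true_and] at h1
    rcases hab z h1.2 with h2 | h2
    · exact Or.inl (Finset.mem_filter.2 ⟨hz, h2⟩)
    · exact Or.inr (Finset.mem_filter.2 ⟨hz, h2⟩)
  have h5 := (Finset.card_le_card hU).trans (Finset.card_union_le _ _)
  have h6 := key a
  have h7 := key b
  omega

/-- the normaliser of a cyclic subgroup containing the centralisers of its elements of order `v` -/
theorem card_normalizer_le [Finite T] {v : ℕ} (hv : v.Prime) {C : Subgroup T} (hcyc : IsCyclic C)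
    (hvC : v ∣ Nat.card C) (hC : ∀ y ∈ C, orderOf y = v → centralizer {y} ≤ C) {K m : ℕ}
    (hK : Nat.card T = Nat.card C * K) (hm : K ≡ m [MOD v]) (hm0 : 0 < m) (hmv : m < v) :
    Nat.card (normalizer (C : Set T)) ≤ Nat.card C * m := by
  have := Fact.mk hv
  obtain ⟨x, hx⟩ := exists_prime_orderOf_dvd_card' (G := C) v hvC
  have hx' : orderOf (x : T) = v := by rw [Subgroup.orderOf_coe, hx]
  have hcomm : ∀ x ∈ C, ∀ y ∈ C, x * y = y * x := by
    intro x hx y hy
    let _ : CommGroup C := IsCyclic.commGroup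
    exact congrArg Subtype.val (mul_comm (⟨x, hx⟩ : C) ⟨y, hy⟩)
  have hcent : centralizer ({(x : T)} : Set T) = C :=
    le_antisymm (hC _ x.2 hx') (fun c hc => mem_centralizer_singleton_iff.2 (hcomm c hc x x.2))
  have hvK : ¬ v ∣ K := by
    intro h1
    have h2 : m ≡ 0 [MOD v] := hm.symm.trans ((Nat.modEq_zero_iff_dvd).2 h1)
    exact absurd (Nat.le_of_dvd hm0 ((Nat.modEq_zero_iff_dvd).1 h2)) (by omega)
  have h1 := Cfsg.Agent.H946.Rad.card_normalizer hv hx' (by rw [hcent]; exact hcyc) (by rw [hcent]) hK hvK hm hm0 hmv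
  rw [← h1]
  refine Subgroup.card_le_of_le ?_
  -- the subgroup `⟨x⟩` is characteristic in `C`
  intro g hg
  refine mem_normalizer_of ?_
  have hg1 : g * x * g⁻¹ ∈ C := (Subgroup.mem_normalizer_iff.1 hg x).1 x.2
  -- the subgroups of order `v` of a cyclic group
  have h2 : zpowers (⟨g * x * g⁻¹, hg1⟩ : C) = zpowers x := by
    have := Fintype.ofFinite C
    refine Cfsg.Agent.H788.Der.eq_of_card_cyc ?_
    rw [Nat.card_zpowers, Nat.card_zpowers, Subgroup.orderOf_mk, orderOf_conj, Subgroup.orderOf_coe]
  have h3 : (⟨g * x * g⁻¹, hg1⟩ : C) ∈ zpowers x := by rw [← h2]; exact mem_zpowers _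
  obtain ⟨k, hk⟩ := mem_zpowers_iff.1 h3
  exact mem_zpowers_iff.2 ⟨k, by simpa using congrArg Subtype.val hk⟩

end Cfsg.Agent.H788.Der
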