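import Cfsg.Agent.H788.Der.NTC
import Cfsg.Agent.H428.NBL.Tw
import Cfsg.Agent.H788.NB.TwD4

/-!
# Commuting elements of prime orders in `G₂(q)` and `³D₄(q)` (helper788, task 2983)

* `adj_g2` : primes `v ≠ w` dividing `q (q² - 1)` are adjacent in the prime graph of `G₂(q)`;
* `adj_d4` : primes `v ∣ q (q² - 1)`, `w ∣ q (q⁶ - 1)`, `v ≠ w` are adjacent in the prime graph of `³D₄(q)`.
-/

set_option autoImplicit false
set_option linter.unusedSectionVars false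

namespace Cfsg.Agent.H788.Der

open CoxeterSystem Cfsg Cfsg.Lie Cfsg.Agent.ChevalleyStructure Cfsg.Agent.ChevalleyStructure.Elts
  Cfsg.Agent.ChevalleyStructure.TwistedU
  Cfsg.Agent.ChevalleyStructure.CoxeterGeom Cfsg.Agent.Tits.Roots Cfsg.Agent.Tits.Core
open Cfsg.Agent.ChevalleyStructure.CoxeterGeomTypes
open Cfsg.Agent.Nodes.Reps Cfsg.Agent.Nodes.BNOf
  Cfsg.Agent.Nodes Cfsg.Agent.Nodes.RGDChev Cfsg.Agent.KFacts.RgdChevCoord
  Cfsg.Agent.Nodes.RGDTwGen Cfsg.Agent.Nodes.RGDFold Cfsg.Agent.Nodes.RGDFoldSL Cfsg.Agent.Nodes.RGDTwCoord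
open Cfsg.Agent.ChevalleyStructure.SL2Hom Cfsg.Agent.ChevalleyStructure.RootVec
open Cfsg.Agent.H92.ExcSL2 Cfsg.Agent.H818.StrP.UTab Cfsg.Agent.H818.StrP.UAct
open Cfsg.Agent.GpExc Cfsg.Agent.H788.NB

section Abs

variable {F : Type*} [Field F] [Finite F] {Y : Type*} [Group Y] {φ : Matrix.SpecialLinearGroup (Fin 2) F →* Y}

theorem dvd_range (hk : ∀ g, φ g = 1 → g = 1 ∨ g = -1) {p : ℕ} (hp : p.Prime)
    (h : p ∣ Nat.card F * (Nat.card F ^ 2 - 1)) : p ∣ Nat.card φ.range := by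
  obtain ⟨c, hc, hc2⟩ := H428.NBL.card_range hk
  rcases hc2 with rfl | ⟨rfl, ho⟩
  · rw [mul_one] at hc
    rwa [hc]
  · by_cases h2 : p = 2
    · subst h2
      have h4 : 4 ∣ Nat.card F ^ 2 - 1 := by
        obtain ⟨k, hk⟩ := ho
        have e : (2 * k + 1) ^ 2 = 4 * (k ^ 2 + k) + 1 := by ring
        rw [hk, e]
        simp
      have h5 : 4 ∣ Nat.card φ.range * 2 := by rw [hc]; exact h4.mul_left _
      omega
    · rw [← hc] at h
      rcases hp.dvd_mul.1 h with h | h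
      · exact h
      · exact absurd ((Nat.prime_dvd_prime_iff_eq hp Nat.prime_two).1 h) h2

/-- commuting images of `SL₂` -/
theorem adj_of_comm [Finite Y] {F' : Type*} [Field F'] [Finite F'] {ψ : Matrix.SpecialLinearGroup (Fin 2) F' →* Y}
    (hk : ∀ g, φ g = 1 → g = 1 ∨ g = -1) (hk' : ∀ g, ψ g = 1 → g = 1 ∨ g = -1)
    (hc : ∀ x ∈ φ.range, ∀ y ∈ ψ.range, x * y = y * x) {v w : ℕ} (hv : v.Prime) (hw : w.Prime) (hne : v ≠ w)
    (h1 : v ∣ Nat.card F * (Nat.card F ^ 2 - 1)) (h2 : w ∣ Nat.card F' * (Nat.card F' ^ 2 - 1)) :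
    Cfsg.Agent.H94.PG.Adj Y v w := by
  have := Fact.mk hv
  have := Fact.mk hw
  obtain ⟨x, hx⟩ := exists_prime_orderOf_dvd_card' (G := φ.range) v (dvd_range hk hv h1)
  obtain ⟨y, hy⟩ := exists_prime_orderOf_dvd_card' (G := ψ.range) w (dvd_range hk' hw h2)
  exact ⟨hv, hw, hne, x, y, by rw [Subgroup.orderOf_coe, hx], by rw [Subgroup.orderOf_coe, hy], hc x x.2 y y.2⟩

end Abs

/-! ### `G₂(q)` -/

theorem typeG2 : IsType chevG2 2 CoxeterMatrix.G₂ := by simp [IsType, typeList]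

/-- **`G₂(q)`** -/
theorem adj_g2 {F : Type} [Field F] [Finite F] {v w : ℕ} (hv : v.Prime) (hw : w.Prime) (hne : v ≠ w)
    (h1 : v ∣ Nat.card F * (Nat.card F ^ 2 - 1)) (h2 : w ∣ Nat.card F * (Nat.card F ^ 2 - 1)) :
    Cfsg.Agent.H94.PG.Adj ↥(chevG2.group F) v w := by
  have hH : HiList chevG2 := by simp
  have hp := typeG2
  let cs : CoxeterSystem CoxeterMatrix.G₂ CoxeterMatrix.G₂.Group := CoxeterMatrix.G₂.toCoxeterSystem
  refine adj_of_comm (φ := pt hH) (ψ := OddHalf.LongSL.Chev.phi hp F 0) (fun g hg => ph_eq_one _ _ hg)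
    (H428.NBL.ker_phi hp F 0) ?_ hv hw hne h1 h2
  have e : nd hH hp = 1 := Fin.ext (by decide : node chevG2 = 1)
  rintro _ ⟨g, rfl⟩ y hy
  rw [H428.NBL.range_phi] at hy
  refine pt_comm hH hp cs g y ((sup_le ?_ ?_ : _ ≤ RGD.Sup (XX chevG2 2 F) (Om hp cs hH)) hy)
  · refine RGD.le_Sup (X := XX chevG2 2 F) ⟨isRoot_sr cs _ 0, ?_⟩
    rw [e]
    decide +kernel
  · refine RGD.le_Sup (X := XX chevG2 2 F) ⟨(isRoot_sr cs _ 0).neg, ?_⟩
    rw [e]
    decide +kernel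

/-! ### `³D₄(q)` -/

section D4

variable {K : Type} [Field K] [Fintype K] {q : ℕ} {φ : K →+* K}

/-- the long root `SL₂(q)` -/
noncomputable def Long (hφ : ∀ x, φ x = x ^ q) : SL2 ↥(TwD4.F0 φ) →* ↥(twistedD4 K q) :=
  MonoidHom.codRestrict ((phi (SL2All.good_of_mem chevD4 TwD4.hH.inList (top chevD4) (top_lt TwD4.hH)) K).comp
      (Matrix.SpecialLinearGroup.map (TwD4.F0 φ).subtype)) _ fun g => TwD4.phi_mem hφ g

theorem long_eq_one (hφ : ∀ x, φ x = x ^ q) (g : SL2 ↥(TwD4.F0 φ)) (h : Long hφ g = 1) : g = 1 ∨ g = -1 := by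
  have hinj := Rank.map_injective (TwD4.F0 φ).subtype
  have h1 : ph TwD4.hH.inList (top_lt TwD4.hH) (Matrix.SpecialLinearGroup.map (TwD4.F0 φ).subtype g) =
      (1 : ↥(chevD4.group K)) := by
    apply Subtype.ext
    rw [coe_ph]
    exact congrArg Subtype.val h
  rcases ph_eq_one _ _ h1 with h2 | h2
  · left
    apply hinj
    rw [h2, map_one]
  · right
    apply hinj
    rw [h2]
    apply Subtype.ext
    ext i j
    rw [Matrix.SpecialLinearGroup.map_apply_coe]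
    fin_cases i <;> fin_cases j <;> simp

theorem long_comm (hφ : ∀ x, φ x = x ^ q) (g : SL2 ↥(TwD4.F0 φ)) {z : Fin 2 → ℤ} (hz : z 0 = 0)
    {u : ↥(twistedD4 K q)} (hu : u ∈ RGDTwD4.X φ q z) : Long hφ g * u = u * Long hφ g := by
  let cs : CoxeterSystem coxeterD4 coxeterD4.Group := coxeterD4.toCoxeterSystem
  have hT := Cfsg.Agent.Nodes.RGDTwD4.hp
  set g' := phi (SL2All.good_of_mem chevD4 TwD4.hH.inList (top chevD4) (top_lt TwD4.hH)) K
      (Matrix.SpecialLinearGroup.map (TwD4.F0 φ).subtype g) with hg'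
  have h1 : rspan (xG (F := K) hT.inList) {k | k < chevD4.nroots ∧ V chevD4 RGDTwD4.J k = z} ≤
      Subgroup.centralizer {g'} := by
    refine rspan_le _ fun k hk t => ?_
    rw [Subgroup.mem_centralizer_singleton_iff]
    have h2 := pt_comm TwD4.hH hT cs (Matrix.SpecialLinearGroup.map (TwD4.F0 φ).subtype g)
      ⟨xG hT.inList k t, xG_mem_group hT.inList k t⟩ (RGD.le_Sup (X := XX chevD4 4 K)
        (show vec chevD4 4 k ∈ Om hT cs TwD4.hH from ⟨(isRoot_iff hT cs _).2 ⟨k, hk.1, rfl⟩, ?_⟩) ?_)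
    · exact (congrArg Subtype.val h2).symm
    · have h3 := TwD4.hV k hk.1
      rw [hk.2, hz] at h3
      exact h3.symm
    · rw [Subgroup.mem_subgroupOf, XV_vec hT K hk.1]
      exact xG_mem_rootSubgroup hT.inList k _
  have h2 : (u : GL chevD4.Idx K) ∈ rspan (xG (F := K) hT.inList)
      {k | k < chevD4.nroots ∧ V chevD4 RGDTwD4.J k = z} := by
    have h3 : (u : GL chevD4.Idx K) ∈ R chevD4 hT K RGDTwD4.J (D4Fixed.sig φ) z := Subgroup.mem_subgroupOf.1 hu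
    exact h3.1
  have h3 := h1 h2
  rw [Subgroup.mem_centralizer_singleton_iff] at h3
  exact Subtype.ext h3.symm

/-- **`³D₄(q)`** -/
theorem adj_d4 (hq : IsPrimePow q) (hK : Fintype.card K = q ^ 3) {v w : ℕ} (hv : v.Prime) (hw : w.Prime)
    (hne : v ≠ w) (h1 : v ∣ q * (q ^ 2 - 1)) (h2 : w ∣ q ^ 3 * (q ^ 6 - 1)) :
    Cfsg.Agent.H94.PG.Adj ↥(twistedD4 K q) v w := by
  obtain ⟨φ, hφ⟩ := D4Fixed.exists_frob hq hK
  have hq1 : 1 < q := hq.one_lt
  obtain ⟨ψ, hψ1, hψ2⟩ := H428.NBL.hom_D4' hK (by omega) hφ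
  let _ : Fintype ↥(TwD4.F0 φ) := Fintype.ofFinite _
  have hF : Nat.card ↥(TwD4.F0 φ) = q := by
    rw [Nat.card_eq_fintype_card, TwD4.card_F0 hφ hq1 hK]
  refine adj_of_comm (φ := Long hφ) (ψ := ψ) (long_eq_one hφ) hψ1 ?_ hv hw hne (by rw [hF]; exact h1)
    (by rw [Nat.card_eq_fintype_card, hK, ← pow_mul]; exact h2)
  rintro _ ⟨g, rfl⟩ y hy
  rw [hψ2] at hy
  have h3 : RGDTwD4.X φ q (sr 1) ⊔ RGDTwD4.X φ q (-sr 1) ≤ Subgroup.centralizer {Long hφ g} := by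
    refine sup_le ?_ ?_
    · intro u hu
      rw [Subgroup.mem_centralizer_singleton_iff]
      exact (long_comm hφ g TwD4.sr1.1 hu).symm
    · intro u hu
      rw [Subgroup.mem_centralizer_singleton_iff]
      exact (long_comm hφ g TwD4.sr1.2 hu).symm
  exact (Subgroup.mem_centralizer_singleton_iff.1 (h3 hy)).symm

end D4

end Cfsg.Agent.H788.Der
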