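import Cfsg.Agent.H320.Der.Ntc

/-!
# Elements of even order of `PΩ` over the field of three elements (helper788, S3502)

* `exists_coset` : every isometry is, modulo `E Q`, a product of two given orthogonal reflections
* `exists_order_four_mul` : elements of order `N`, `4 ∣ N`, in `PΩ(W ⊥ H)` from isometries of order `N` of `W`
-/

set_option autoImplicit false

namespace Cfsg.Agent.H788.Der.Om

open Module Subgroup QuadraticMap
open Cfsg.Agent.LieClassical.OrthCore Cfsg.Agent.LieClassical.OrthTrans Cfsg.Agent.AutOrth.SemiSim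
  Cfsg.Agent.AutOrth.Gen Cfsg.Agent.ClassicalGeometry.OrthAut1 Cfsg.Agent.AutOrth.Main Cfsg.Agent.H320.Der
  Cfsg.Agent.H377

section coset

variable {F V : Type*} [Field F] [AddCommGroup V] [Module F V] {Q : QuadraticForm F V}

theorem refl_sq {v : V} (hv : Q v ≠ 0) (x : V) : refl Q v hv (refl Q v hv x) = x := by
  have := congrArg (fun f : V ≃ₗ[F] V => f x) (refl_mul_self (Q := Q) hv)
  exact this

/-- products of the two reflections -/
def IsS (Q : QuadraticForm F V) (v w : V) (hv : Q v ≠ 0) (hw : Q w ≠ 0) (s : V ≃ₗ[F] V) : Prop :=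
  s = 1 ∨ s = refl Q v hv ∨ s = refl Q w hw ∨ s = refl Q v hv * refl Q w hw

theorem four_mul {G : Type*} [Group G] {a b : G} (ha : a * a = 1) (hb : b * b = 1) (hab : a * b = b * a) {s t : G}
    (hs : s = 1 ∨ s = a ∨ s = b ∨ s = a * b) (ht : t = 1 ∨ t = a ∨ t = b ∨ t = a * b) :
    s * t = 1 ∨ s * t = a ∨ s * t = b ∨ s * t = a * b := by
  have h1 : ∀ x, a * (a * x) = x := fun x => by rw [← mul_assoc, ha, one_mul]
  have h3 : b * a = a * b := hab.symm
  have h4 : ∀ x, b * (a * x) = a * (b * x) := fun x => by rw [← mul_assoc, h3, mul_assoc]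
  rcases hs with rfl | rfl | rfl | rfl <;> rcases ht with rfl | rfl | rfl | rfl <;>
    simp [mul_assoc, h1, h3, h4, ha, hb]

theorem four_inv {G : Type*} [Group G] {a b : G} (ha : a * a = 1) (hb : b * b = 1) (hab : a * b = b * a) {s : G}
    (hs : s = 1 ∨ s = a ∨ s = b ∨ s = a * b) : s * s = 1 := by
  rcases hs with rfl | rfl | rfl | rfl
  · exact one_mul 1
  · exact ha
  · exact hb
  · rw [mul_assoc, ← mul_assoc b a b, ← hab, mul_assoc a b b, hb, mul_one, ha]

/-- every isometry is, modulo `E Q`, a product of two given orthogonal reflections -/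
theorem exists_coset [FiniteDimensional F V] (hG : Good Q) {v w : V} (hv : Q v ≠ 0) (hw : Q w ≠ 0)
    (hvw : polar Q v w = 0) (hc : ∀ x : V, Q x ≠ 0 → Q x = Q v ∨ Q x = Q w) {g : V ≃ₗ[F] V} (hg : g ∈ O Q) :
    ∃ s : V ≃ₗ[F] V, IsS Q v w hv hw s ∧ g * s ∈ E Q := by
  have ha := refl_mul_self (Q := Q) hv
  have hb := refl_mul_self (Q := Q) hw
  have hab := refl_comm hv hw hvw
  have hSO : ∀ s, IsS Q v w hv hw s → s ∈ O Q := by
    rintro s (rfl | rfl | rfl | rfl)
    · exact (O Q).one_mem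
    · exact refl_mem_O hv
    · exact refl_mem_O hw
    · exact (O Q).mul_mem (refl_mem_O hv) (refl_mem_O hw)
  rw [O_eq_closure hG.nondeg] at hg
  induction hg using Subgroup.closure_induction with
  | mem x hx =>
    rcases hx with hx | hx
    · obtain ⟨u, hu, rfl⟩ := hx
      rcases hc u hu with h1 | h1
      · exact ⟨refl Q v hv, Or.inr (Or.inl rfl), hG.refl_mul_refl_mem hv hu h1.symm⟩
      · exact ⟨refl Q w hw, Or.inr (Or.inr (Or.inl rfl)), hG.refl_mul_refl_mem hw hu h1.symm⟩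
    · exact ⟨1, Or.inl rfl, by rw [mul_one]; exact Subgroup.subset_closure hx⟩
  | one => exact ⟨1, Or.inl rfl, by rw [mul_one]; exact (E Q).one_mem⟩
  | mul x y _ _ hx hy =>
    obtain ⟨s, hs, hxs⟩ := hx
    obtain ⟨t, ht, hyt⟩ := hy
    refine ⟨t * s, four_mul ha hb hab ht hs, ?_⟩
    have h1 := conj_mem_E ((O Q).inv_mem (hSO s hs)) hyt
    have h2 := (E Q).mul_mem hxs h1
    have h3 : x * s * (s⁻¹ * (y * t) * s⁻¹⁻¹) = x * y * (t * s) := by group
    rwa [h3] at h2
  | inv x _ hx =>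
    obtain ⟨s, hs, hxs⟩ := hx
    refine ⟨s, hs, ?_⟩
    have h1 := (E Q).inv_mem hxs
    have h2 := conj_mem_E (hSO s hs) h1
    have h3 : s * (x * s)⁻¹ * s⁻¹ = x⁻¹ * s⁻¹ := by group
    have h4 : s⁻¹ = s := inv_eq_of_mul_eq_one_right (four_inv ha hb hab hs)
    rwa [h3, h4] at h2

end coset

section order

variable {F : Type*} [Field F] [Finite F]

/-- **elements of order `N`, `4 ∣ N`** -/
theorem exists_order_four_mul {ι : Type} [Fintype ι] [DecidableEq ι] {Q : QuadraticForm F (ι → F)} (hG : Good Q)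
    {W : Type*} [AddCommGroup W] [Module F W] {Q' : QuadraticForm F W} {g : Module.End F W}
    (hg : ∀ x, Q' (g x) = Q' x) {N : ℕ} (hN0 : 0 < N) (hN : 4 ∣ N) (ho : orderOf g = N)
    (e : (ι → F) ≃ₗ[F] W × (F × F)) (he : ∀ u, sumQ Q' (hypQ F) (e u) = Q u)
    (h3 : ∀ x : F, x ≠ 0 → x = 1 ∨ x = -1) : ∃ x : Cfsg.POmega F ⇑Q, orderOf x = N := by
  have hgN : g ^ N = 1 := by rw [← ho]; exact pow_orderOf_eq_one g
  have hgN1 : g * g ^ (N - 1) = 1 := by rw [← pow_succ', Nat.sub_add_cancel hN0, hgN]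
  have hgN2 : g ^ (N - 1) * g = 1 := by rw [← pow_succ, Nat.sub_add_cancel hN0, hgN]
  let gE : W ≃ₗ[F] W := LinearEquiv.ofLinearMap g (g ^ (N - 1)) hgN1 hgN2
  have hgE : ∀ x, gE x = g x := fun x => rfl
  let G : (ι → F) ≃ₗ[F] (ι → F) := e.trans ((gE.prodCongr (LinearEquiv.refl F (F × F))).trans e.symm)
  have hGa : ∀ x y, G (e.symm (x, y)) = e.symm (g x, y) := by
    intro x y
    show e.symm ((gE.prodCongr (LinearEquiv.refl F (F × F))) (e (e.symm (x, y)))) = _
    rw [e.apply_symm_apply]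
    rfl
  have hQs : ∀ x y, Q (e.symm (x, y)) = Q' x + hypQ F y := by
    intro x y
    rw [← he, e.apply_symm_apply, sumQ_apply]
  have hdec : ∀ u : ι → F, ∃ x y, u = e.symm (x, y) := fun u => ⟨(e u).1, (e u).2, by simp⟩
  have hGO : G ∈ O Q := by
    rw [mem_O]
    intro u
    obtain ⟨x, y, rfl⟩ := hdec u
    rw [hGa, hQs, hQs, hg]
  have hpol : ∀ x y x' y', polar Q (e.symm (x, y)) (e.symm (x', y')) = polar Q' x x' + polar (hypQ F) y y' := by
    intro x y x' y'
    rw [polar, polar, polar, ← map_add, Prod.mk_add_mk, hQs, hQs, hQs]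
    ring
  obtain ⟨v, hvd⟩ : ∃ v, v = e.symm (0, ((1 : F), (1 : F))) := ⟨_, rfl⟩
  obtain ⟨w, hwd⟩ : ∃ w, w = e.symm (0, ((1 : F), (-1 : F))) := ⟨_, rfl⟩
  have hv1 : Q v = 1 := by rw [hvd, hQs, hypQ_apply, map_zero]; simp
  have hw1 : Q w = -1 := by rw [hwd, hQs, hypQ_apply, map_zero]; simp
  have hvw : polar Q v w = 0 := by
    rw [hvd, hwd, hpol, polar, polar, hypQ_apply, hypQ_apply, hypQ_apply]
    simp
  have hv : Q v ≠ 0 := by rw [hv1]; exact one_ne_zero
  have hw : Q w ≠ 0 := by rw [hw1]; exact neg_ne_zero.2 one_ne_zero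
  obtain ⟨s, hs, hE⟩ := exists_coset hG hv hw hvw (fun x hx => by rw [hv1, hw1]; exact h3 _ hx) hGO
  have hvx : ∀ x, polar Q v (e.symm (x, 0)) = 0 := by
    intro x
    rw [hvd, hpol]
    simp [polar]
  have hwx : ∀ x, polar Q w (e.symm (x, 0)) = 0 := by
    intro x
    rw [hwd, hpol]
    simp [polar]
  -- `s` fixes `W`
  have hrv : ∀ x, refl Q v hv (e.symm (x, 0)) = e.symm (x, 0) := fun x => by
    rw [refl_apply, hvx, mul_zero, zero_smul, sub_zero]
  have hrw : ∀ x, refl Q w hw (e.symm (x, 0)) = e.symm (x, 0) := fun x => by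
    rw [refl_apply, hwx, mul_zero, zero_smul, sub_zero]
  have hsW : ∀ x, s (e.symm (x, 0)) = e.symm (x, 0) := by
    intro x
    rcases hs with rfl | rfl | rfl | rfl
    · rfl
    · exact hrv x
    · exact hrw x
    · rw [LinearEquiv.mul_apply, hrw, hrv]
  have hGv : G v = v := by rw [hvd, hGa, map_zero]
  have hGw : G w = w := by rw [hwd, hGa, map_zero]
  have hss : s * s = 1 := four_inv (refl_mul_self hv) (refl_mul_self hw) (refl_comm hv hw hvw) hs
  -- `G` commutes with `s`
  have hcr : ∀ (u : ι → F) (hu : Q u ≠ 0), G u = u → G * refl Q u hu = refl Q u hu * G := by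
    intro u hu hGu
    ext1 x
    rw [LinearEquiv.mul_apply, LinearEquiv.mul_apply, refl_apply, refl_apply, map_sub, map_smul, hGu]
    have h4 : polar Q u (G x) = polar Q u x := by
      have h5 := polar_map hGO u x
      rwa [hGu] at h5
    rw [h4]
  have hGs : Commute G s := by
    rcases hs with rfl | rfl | rfl | rfl
    · exact Commute.one_right G
    · exact hcr v hv hGv
    · exact hcr w hw hGw
    · exact Commute.mul_right (hcr v hv hGv) (hcr w hw hGw)
  obtain ⟨z, hz⟩ : ∃ z : ↥(E Q), z = ⟨G * s, hE⟩ := ⟨_, rfl⟩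
  have hzc : ∀ j : ℕ, ((z ^ j : ↥(E Q)) : (ι → F) ≃ₗ[F] (ι → F)) = G ^ j * s ^ j := by
    intro j
    rw [hz, SubmonoidClass.coe_pow]
    exact hGs.mul_pow j
  have hGj : ∀ (j : ℕ) x y, (G ^ j) (e.symm (x, y)) = e.symm ((g ^ j) x, y) := by
    intro j
    induction j with
    | zero => intro x y; rfl
    | succ j ih => intro x y; rw [pow_succ, LinearEquiv.mul_apply, hGa, ih, pow_succ, Module.End.mul_apply]
  have hsj : ∀ (j : ℕ) x, (s ^ j) (e.symm (x, 0)) = e.symm (x, 0) := by
    intro j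
    induction j with
    | zero => intro x; rfl
    | succ j ih => intro x; rw [pow_succ, LinearEquiv.mul_apply, hsW, ih]
  have hzW : ∀ (j : ℕ) x, ((z ^ j : ↥(E Q)) : (ι → F) ≃ₗ[F] (ι → F)) (e.symm (x, 0)) = e.symm ((g ^ j) x, 0) := by
    intro j x
    rw [hzc, LinearEquiv.mul_apply, hsj, hGj]
  have hzN : z ^ N = 1 := by
    apply Subtype.ext
    rw [hzc]
    obtain ⟨k, hk⟩ := (show 2 ∣ N from (by norm_num : 2 ∣ 4).trans hN)
    have h5 : s ^ N = 1 := by rw [hk, pow_mul, pow_two, hss, one_pow]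
    rw [h5, mul_one]
    ext1 u
    obtain ⟨x, y, rfl⟩ := hdec u
    rw [hGj, hgN]
    rfl
  have key : orderOf ((z : ↥(E Q)) : P Q) = N := by
    refine orderOf_eq_of_forall fun j => ⟨fun h => ?_, fun h => ?_⟩
    · have h5 : ((z ^ j : ↥(E Q)) : P Q) = 1 := h
      have h6 : z ^ j ∈ center ↥(E Q) := (QuotientGroup.eq_one_iff _).1 h5
      obtain ⟨c, hcs⟩ := scalar_of_center hG h6
      have h7 := center_sq hG h6
      rw [← pow_mul] at h7
      have h8 : g ^ (j * 2) = 1 := by
        refine LinearMap.ext fun x => ?_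
        have h9 := hzW (j * 2) x
        rw [h7] at h9
        have h10 := e.symm.injective h9
        exact (congrArg Prod.fst h10).symm
      have h9 : N ∣ j * 2 := by rw [← ho]; exact orderOf_dvd_of_pow_eq_one h8
      have h10 : 2 ∣ j := by
        have := hN.trans h9
        omega
      obtain ⟨k, rfl⟩ := h10
      have h11 := hcs v
      rw [hzc, LinearEquiv.mul_apply, pow_mul s, pow_two s, hss, one_pow] at h11
      have h12 : (G ^ (2 * k)) v = v := by
        rw [hvd, hGj, map_zero]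
      have h13 : v = c • v := by
        rw [← h11]
        exact h12.symm
      have hv0 : v ≠ 0 := by
        rintro h0
        rw [h0, map_zero] at hv
        exact hv rfl
      have hc1 : c = 1 := by
        have h14 : (1 - c) • v = 0 := by rw [sub_smul, one_smul, ← h13, sub_self]
        rcases smul_eq_zero.1 h14 with h15 | h15
        · exact (sub_eq_zero.1 h15).symm
        · exact absurd h15 hv0
      rw [← ho]
      apply orderOf_dvd_of_pow_eq_one
      refine LinearMap.ext fun x => ?_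
      have h14 := hzW (2 * k) x
      rw [hcs, hc1, one_smul] at h14
      exact (congrArg Prod.fst (e.symm.injective h14)).symm
    · obtain ⟨k, rfl⟩ := h
      show ((z ^ (N * k) : ↥(E Q)) : P Q) = 1
      rw [pow_mul, hzN, one_pow]
      rfl
  exact ⟨(pe hG).symm ((z : ↥(E Q)) : P Q), by rw [MulEquiv.orderOf_eq, key]⟩

end order

end Cfsg.Agent.H788.Der.Om
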