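import Cfsg.Agent.H788.Der.OmCos

set_option autoImplicit false

namespace Cfsg.Agent.H788.Der.Om

open Polynomial Module Subgroup QuadraticMap Cfsg.Agent.H439.Der
open Cfsg.Agent.LieClassical.OrthCore Cfsg.Agent.LieClassical.OrthTrans
  Cfsg.Agent.H403.Classify Cfsg.Agent.H377 Cfsg.Agent.AutOrth.Main Cfsg.Agent.ClassicalGeometry.OrthAut1
  Cfsg.Agent.LieClassical.QuadForms Cfsg.Agent.H72.AdjOrth Cfsg.Agent.H320.Der

universe u

theorem ne_zero_cases {F : Type*} [Field F] [Fintype F] (hF : Fintype.card F = 3) (x : F) (hx : x ≠ 0) :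
    x = 1 ∨ x = -1 := by
  have h1 : x ^ 2 = 1 := by
    have := FiniteField.pow_card_sub_one_eq_one x hx
    rwa [hF] at this
  exact mul_self_eq_one_iff.1 (by rw [← pow_two]; exact h1)

/-- elements of order `N`, `4 ∣ N`, in `PΩ⁻_{2m}(3)` from the minus space of dimension `2m - 2` -/
theorem exists_minus_four_mul {F : Type u} [Field F] [Fintype F] (hF : Fintype.card F = 3) {m : ℕ} (hm : 3 ≤ m)
    {a b : F} (hab : ∀ z₁ z₂ : F, z₁ ^ 2 + a * z₁ * z₂ + b * z₂ ^ 2 = 0 → z₁ = 0 ∧ z₂ = 0) {N : ℕ} (hN : 4 ∣ N)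
    (h : Elt F (m - 1) (-1) N) : ∃ x : Cfsg.POmega F (Cfsg.quadFormMinus (m - 1) F a b), orderOf x = N := by
  obtain ⟨hN0, Q1, g, hQ1, hs, hg, ho⟩ := h
  have hs' := hs.prod (hasSign_mul (F := F))
  rw [mul_one, Nat.sub_add_cancel (by omega : 1 ≤ m)] at hs'
  obtain ⟨e, he⟩ := exists_minus (m := m) (by omega) (V := (Fin (2 * (m - 1)) → F) × (F × F)) (by
    rw [Module.finrank_prod, Module.finrank_prod, Module.finrank_fin_fun, Module.finrank_self]; omega)
    (sumQ Q1 (hypQ F)) (sumQ_nondeg hQ1 hypQ_nondeg) hs' hab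
  rw [← coe_minusForm]
  exact exists_order_four_mul (good_minus (F := F) (m := m - 1) (by omega) hab) hg hN0 hN ho e
    (fun u => by rw [he, coe_minusForm]) (ne_zero_cases hF)

theorem aut_three {F : Type*} [Field F] [Fintype F] (hF : Fintype.card F = 3) : Nat.card (F ≃+* F) = 1 :=
  Cfsg.Agent.Lib.FieldAutCard.card_ringAut (p := 3) (f := 1) le_rfl (by rw [hF, pow_one])

/-- **`NTC` for `PΩ⁻_8(3)`** -/
theorem th_o8m3 {F : Type u} [Field F] [Fintype F] (hF : Fintype.card F = 3) {a b : F}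
    (hab : ∀ z₁ z₂ : F, z₁ ^ 2 + a * z₁ * z₂ + b * z₂ ^ 2 = 0 → z₁ = 0 ∧ z₂ = 0) {v : ℕ} (hv : v.Prime)
    (hd : v ∣ Nat.card (Cfsg.POmega F (Cfsg.quadFormMinus 3 F a b))) :
    Th (Cfsg.POmega F (Cfsg.quadFormMinus 3 F a b)) v := by
  have G : Gp F 4 (-1) 1 (Cfsg.POmega F (Cfsg.quadFormMinus 3 F a b)) := gp_minus_all (m := 4) le_rfl hab
  have hfin := G.fin
  have hc : Nat.card F = 3 := by rw [Nat.card_eq_fintype_card, hF]
  by_cases h2 : Nat.card F = 3 ∧ v ≠ 2 ∧ v ≠ 3 ∧ 4 ≤ eta (ee (Nat.card F) v) + 1 ∧ eta (ee (Nat.card F) v) = 3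
  · obtain ⟨-, hv2, hv3, -, hη⟩ := h2
    rw [hc] at hη
    have hv' : v = 7 ∨ v = 13 := by
      rcases ee_unique hη (by norm_num) with ⟨-, he⟩ | ⟨-, he⟩
      · have h1 : v ∣ 3 ^ 6 - 1 := ee_eq_dvd (by norm_num) he
        have h2 : v ∣ (2 ^ 3 * 7) * 13 := h1
        rcases mem_of_dvd_prod hv h2 with h3 | h3
        · rcases mem_of_dvd_prod hv h3 with h4 | h4
          · exact absurd ((Nat.prime_dvd_prime_iff_eq hv Nat.prime_two).1 (hv.dvd_of_dvd_pow h4)) hv2
          · exact Or.inl ((Nat.prime_dvd_prime_iff_eq hv (by norm_num)).1 h4)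
        · exact Or.inr ((Nat.prime_dvd_prime_iff_eq hv (by norm_num)).1 h3)
      · have h1 : v ∣ 3 ^ 3 - 1 := ee_eq_dvd (by norm_num) he
        have h2 : v ∣ 2 * 13 := h1
        rcases mem_of_dvd_prod hv h2 with h3 | h3
        · exact absurd ((Nat.prime_dvd_prime_iff_eq hv Nat.prime_two).1 h3) hv2
        · exact Or.inr ((Nat.prime_dvd_prime_iff_eq hv (by norm_num)).1 h3)
    rcases hv' with rfl | rfl
    · have := Fact.mk hv
      have hE : Elt F 3 (-1) 28 := elt_tor_minus (by norm_num) (by rw [hc]; norm_num)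
      have h14 : ∃ x : Cfsg.POmega F (Cfsg.quadFormMinus 3 F a b), orderOf x = 14 := by
        have h1 := Elt.add_two (n₂ := 1) (ε₂ := 1) le_rfl (Or.inl rfl) hE (by decide)
        exact G.elt2 14 h1
      have h28 : ∃ x : Cfsg.POmega F (Cfsg.quadFormMinus 3 F a b), orderOf x = 28 :=
        exists_minus_four_mul (m := 4) hF (by norm_num) hab (by norm_num) hE
      exact Th.of_orders (a := 7) (b := 14) (c := 28) dvd_rfl ⟨2, rfl⟩ ⟨4, rfl⟩ (by norm_num) (by norm_num)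
        (by norm_num) (exists_prime_orderOf_dvd_card' 7 hd) h14 h28
    · have hE : EltS F 3 1 13 := eltS_plus (by norm_num) (by rw [hc]; norm_num)
      have h6 : Tw (Cfsg.POmega F (Cfsg.quadFormMinus 3 F a b)) 13 := G.two (k := 3) (ε := 1) (by norm_num)
        (Or.inl (by norm_num)) (Or.inl rfl) (by decide) (by norm_num) hE (by
          rw [aut_three hF, Nat.totient_prime (by norm_num)]
          norm_num)
      have h7 : Elt F 1 (-1) 4 := elt_tor_minus (by norm_num) (by rw [hc]; norm_num)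
      have h8 := Elt.prod_two (by norm_num) (by decide) hE.elt h7 (by decide)
      exact Th.of_two (a := 13) (b := 26) dvd_rfl ⟨2, rfl⟩ (by norm_num) h6 (G.elt2 26 h8)
  · exact th_one G (by omega) hv hd (by omega) h2

end Cfsg.Agent.H788.Der.Om
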