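import Cfsg.Agent.H320.Der.F2
import Cfsg.Agent.H188.Der.Str

/-!
# Commuting elements of orders 11, 7, 3 of ten-dimensional orthogonal groups over `F_2` (helper788, S3502)

* `no_77` : no commuting elements of orders 11 and 7
* `no_comm` : an element of order 3 centralized by an element of order 11 is not centralized by an element of order 7
* `exists_rep` : the isometries of `POmega`, trivial centre
-/

set_option autoImplicit false
set_option linter.unusedSectionVars false

namespace Cfsg.Agent.H788.Der.Ten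

open Module QuadraticMap Cfsg Cfsg.Geo Cfsg.Agent.LieClassical.OrthCore Cfsg.Agent.H955 Cfsg.Agent.H954.TSing
  Cfsg.Agent.H884.El Cfsg.Agent.H938.Sax Cfsg.Agent.H320.Der
open Cfsg.Agent.H951 (fx cm)
open scoped MatrixGroups Matrix

universe u v

section geo

variable {F : Type u} [Field F] [Fintype F] {V : Type v} [AddCommGroup V] [Module F V] [FiniteDimensional F V]
  {Q : QuadraticForm F V} {x s c : Module.End F V}

theorem cm_top (hF : Fintype.card F = 2) (hd : finrank F V = 10) (hx : Iso Q x 11) (hx1 : x ≠ 1) :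
    finrank F (cm x) = 2 * 5 ∧ cm x = ⊤ := by
  have h1 := Typ.finrank_cm_eq (b := 5) hx (Typ.pp_ten hF) hx1 (by omega)
  exact ⟨h1, Submodule.eq_top_of_finrank_eq (by omega)⟩

theorem fx_cases (hF : Fintype.card F = 2) (hd : finrank F V = 10) (hx : Iso Q x 11) (hx1 : x ≠ 1)
    {y : Module.End F V} (hxy : x * y = y * x) : fx y = ⊥ ∨ fx y = ⊤ := by
  obtain ⟨h1, h2⟩ := cm_top hF hd hx hx1
  have h3 := Typ.inf_cm_cases (b := 5) hx (Typ.pp_ten hF) h1 (W := fx y) (Typ.inv_fx_of_comm hxy.symm)
    (by rw [h2]; exact le_top)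
  rwa [h2] at h3

theorem eq_one_of_fx {y : Module.End F V} (h : fx y = ⊤) : y = 1 := by
  refine LinearMap.ext fun v => ?_
  have h1 : v ∈ fx y := by rw [h]; exact Submodule.mem_top
  exact H951.mem_fx.1 h1

/-- no commuting elements of orders 11 and 7 -/
theorem no_77 (hF : Fintype.card F = 2) (hQ : Nondeg Q) (hd : finrank F V = 10) (hx : Iso Q x 11) (hx1 : x ≠ 1)
    (hs : Iso Q s 7) (hs1 : s ≠ 1) (hxs : x * s = s * x) : False := by
  have h1 := (hs.odd_case hQ hs1 (pp7 hF) (by decide) (by omega)).1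
  have h2 := hs.finrank_add
  rcases fx_cases hF hd hx hx1 hxs with h | h
  · rw [h, finrank_bot] at h2
    omega
  · exact hs1 (eq_one_of_fx h)

/-- an element of order 3 centralized by an element of order 11 is not centralized by an element of order 7 -/
theorem no_comm (hF : Fintype.card F = 2) (hQ : Nondeg Q) (hd : finrank F V = 10) (hx : Iso Q x 11) (hx1 : x ≠ 1)
    (hc : Iso Q c 3) (hc1 : c ≠ 1) (hxc : x * c = c * x) (hs : Iso Q s 7) (hs1 : s ≠ 1) (hsc : s * c = c * s) :
    False := by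
  rcases fx_cases hF hd hx hx1 hxc with h | h
  · obtain ⟨h1, h2, -⟩ := hs.odd_case hQ hs1 (pp7 hF) (by decide) (by omega)
    have h3 := (Typ.isPlus_res_iff hc (pp3 hF) (by decide) (W := cm s) (Typ.inv_cm_of_comm hsc)
      (nondeg_cm hQ hs.iso hs.ne0 hs.pow) (by rw [h]; exact inf_bot_eq _) (A := 3) (by rw [h1])).1 h2
    exact absurd h3 (by decide)
  · exact hc1 (eq_one_of_fx h)

end geo

section rep

variable {ι : Type} [Fintype ι] [DecidableEq ι] {F : Type u} [Field F] [Fintype F] {Q : QuadraticForm F (ι → F)}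

omit [Fintype F] in
/-- `POmega` as a group of isometries -/
theorem exists_rep (hb : Subgroup.center (Cfsg.Omega F (⇑Q)) = ⊥) :
    ∃ ρ : Cfsg.POmega F (⇑Q) →* Module.End F (ι → F), Function.Injective ρ ∧ ∀ g v, Q (ρ g v) = Q v := by
  have hinj : Function.Injective (QuotientGroup.mk' (Subgroup.center (Cfsg.Omega F (⇑Q)))) := by
    rw [← MonoidHom.ker_eq_bot_iff, QuotientGroup.ker_mk', hb]
  let e : Cfsg.Omega F (⇑Q) ≃* Cfsg.POmega F (⇑Q) := MulEquiv.ofBijective
    (QuotientGroup.mk' (Subgroup.center (Cfsg.Omega F (⇑Q)))) ⟨hinj, QuotientGroup.mk'_surjective _⟩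
  let f : GL ι F →* Module.End F (ι → F) :=
    { toFun := fun g => H884.El.lin g
      map_one' := lin_one
      map_mul' := fun g h => by
        show Matrix.toLin' ((g * h : GL ι F) : Matrix ι ι F) = _
        rw [Units.val_mul, Matrix.toLin'_mul]
        rfl }
  have hf : Function.Injective f := fun g h hgh => lin_injective hgh
  refine ⟨((f.comp (isometryGroup F (⇑Q)).subtype).comp (Omega F (⇑Q)).subtype).comp e.symm.toMonoidHom, ?_, ?_⟩
  · exact ((hf.comp (isometryGroup F (⇑Q)).subtype_injective).comp (Omega F (⇑Q)).subtype_injective).comp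
      e.symm.injective
  · intro g v
    exact lin_iso le_rfl ((e.symm g : Omega F (⇑Q)) : isometryGroup F (⇑Q)).2 v

end rep

section grp

open Subgroup

variable {F : Type u} [Field F] [Fintype F] {V : Type v} [AddCommGroup V] [Module F V] [FiniteDimensional F V]
  {Q : QuadraticForm F V} {T : Type*} [Group T]

/-- `T` is a group of isometries of a ten-dimensional nondegenerate space over `F_2` -/
structure Rep (Q : QuadraticForm F V) (T : Type*) [Group T] (ρ : T →* Module.End F V) : Prop where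
  card : Fintype.card F = 2
  nondeg : Nondeg Q
  dim : finrank F V = 10
  inj : Function.Injective ρ
  iso : ∀ g v, Q (ρ g v) = Q v

variable {ρ : T →* Module.End F V}

theorem Rep.mk_iso (h : Rep Q T ρ) {e r : ℕ} (hr : PP (Nat.card F) e r) (he : 2 ≤ e) {g : T} (hg : orderOf g = r) :
    Iso Q (ρ g) r ∧ ρ g ≠ 1 := by
  refine ⟨Iso.mk' hr he (by rw [← map_pow, ← hg, pow_orderOf_eq_one, map_one]) (h.iso g), fun h1 => ?_⟩
  have h2 : g = 1 := h.inj (h1.trans (map_one ρ).symm)
  rw [h2, orderOf_one] at hg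
  exact hr.prime.one_lt.ne hg

theorem Rep.no_77 (h : Rep Q T ρ) (g : T) : orderOf g ≠ 77 := by
  intro hg
  have h1 : orderOf (g ^ 7) = 11 := by rw [orderOf_pow_of_dvd (by norm_num) (by rw [hg]; norm_num), hg]
  have h2 : orderOf (g ^ 11) = 7 := by rw [orderOf_pow_of_dvd (by norm_num) (by rw [hg]; norm_num), hg]
  obtain ⟨h3, h4⟩ := h.mk_iso (Typ.pp_ten h.card) (by norm_num) h1
  obtain ⟨h5, h6⟩ := h.mk_iso (pp7 h.card) (by norm_num) h2
  refine Ten.no_77 h.card h.nondeg h.dim h3 h4 h5 h6 ?_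
  rw [← map_mul, ← map_mul, ← pow_add, ← pow_add]

theorem Rep.no_comm (h : Rep Q T ρ) {x c s : T} (hx : orderOf x = 11) (hc : orderOf c = 3) (hs : orderOf s = 7)
    (hxc : Commute x c) (hsc : Commute s c) : False := by
  obtain ⟨h3, h4⟩ := h.mk_iso (Typ.pp_ten h.card) (by norm_num) hx
  obtain ⟨h5, h6⟩ := h.mk_iso (pp3 h.card) (by norm_num) hc
  obtain ⟨h7, h8⟩ := h.mk_iso (pp7 h.card) (by norm_num) hs
  refine Ten.no_comm h.card h.nondeg h.dim h3 h4 h5 h6 ?_ h7 h8 ?_
  · rw [← map_mul, ← map_mul, hxc.eq]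
  · rw [← map_mul, ← map_mul, hsc.eq]

end grp

end Cfsg.Agent.H788.Der.Ten
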