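import Cfsg.Agent.H788.Der.TenGeo
import Cfsg.Agent.H921.M22.Facts2
import Cfsg.Agent.H380.AltSpec
import Cfsg.Agent.CpAut.Alt
import Cfsg.Agent.J4Type.Aut22
import Cfsg.Agent.BpSpor.Inn.Base
import Cfsg.Agent.H809.SelfCentPSU
import Cfsg.Agent.OrdDiv.Main

/-!
# Almost simple groups of order dividing `2^20 3^6 5^2 7 11` without elements of order 33 (helper788, S3502)

* `kill` : `L ⊲ G` simple nonabelian with trivial centralizer, `77 ∣ |L|` : no elements of order 33
-/

set_option autoImplicit false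

namespace Cfsg.Agent.H788.Der.Ten

open Cfsg Subgroup Cfsg.Agent.OrdDiv Cfsg.Agent.CpAut

theorem mem_of_autInner {G : Type*} [Group G] {L : Subgroup G} [L.Normal] (hC : centralizer (L : Set G) = ⊥) {p : ℕ}
    (hp : p.Prime) (hI : AutInner p L) {c : G} (hc : orderOf c = p) : c ∈ L := by
  have hpf : Fact p.Prime := ⟨hp⟩
  have h1 : (MulAut.conjNormal c : MulAut L) ^ p = 1 := by rw [← map_pow, ← hc, pow_orderOf_eq_one, map_one]
  have hα : ∃ g : L, (MulAut.conjNormal c : MulAut L) = MulAut.conj g := by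
    by_cases h : (MulAut.conjNormal c : MulAut L) = 1
    · exact ⟨1, by rw [h, map_one]⟩
    · exact hI _ (orderOf_eq_prime h1 h)
  obtain ⟨g, hg⟩ := hα
  have h2 : (g : G)⁻¹ * c ∈ centralizer (L : Set G) := by
    rw [mem_centralizer_iff]
    intro l hl
    have h3 := congrArg (fun φ : MulAut L => ((φ ⟨l, hl⟩ : L) : G)) hg
    simp only [MulAut.conjNormal_apply, MulAut.conj_apply, Subgroup.coe_mul, Subgroup.coe_inv] at h3
    calc l * ((g : G)⁻¹ * c) = (g : G)⁻¹ * ((g : G) * l * (g : G)⁻¹) * c := by group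
      _ = (g : G)⁻¹ * (c * l * c⁻¹) * c := by rw [h3]
      _ = (g : G)⁻¹ * c * l := by group
  rw [hC, mem_bot] at h2
  rw [← inv_mul_eq_one.1 h2]
  exact g.2

theorem mem_of_index {G : Type*} [Group G] {L : Subgroup G} [L.Normal] {p : ℕ} (hp : p.Prime)
    (hi : ¬ p ∣ L.index) {c : G} (hc : orderOf c = p) : c ∈ L := by
  have h1 : orderOf ((QuotientGroup.mk' L) c) ∣ p := by rw [← hc]; exact orderOf_map_dvd _ _
  have h2 : orderOf ((QuotientGroup.mk' L) c) ∣ L.index := orderOf_dvd_natCard _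
  rcases (Nat.dvd_prime hp).1 h1 with h | h
  · exact (QuotientGroup.eq_one_iff c).1 (orderOf_eq_one_iff.1 h)
  · rw [h] at h2
    exact absurd h2 hi

theorem not_dvd_index {G : Type*} [Group G] [Finite G] {L : Subgroup G} {p a : ℕ} (hL : p ^ a ∣ Nat.card L)
    (hG : ¬ p ^ (a + 1) ∣ Nat.card G) : ¬ p ∣ L.index := by
  intro h
  apply hG
  rw [← L.card_mul_index, pow_succ]
  exact Nat.mul_dvd_mul hL h

/-! ### no elements of order 33 -/

theorem t11 : ∀ x ∈ H380.AltSpec.T 11 11, x.1 ≠ 33 := by decide +kernel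
theorem t12 : ∀ x ∈ H380.AltSpec.T 12 12, x.1 ≠ 33 := by decide +kernel

theorem alt11 (x : alternatingGroup (Fin 11)) : orderOf x ≠ 33 := t11 _ (H380.AltSpec.orderOf_mem_T x)
theorem alt12 (x : alternatingGroup (Fin 12)) : orderOf x ≠ 33 := t12 _ (H380.AltSpec.orderOf_mem_T x)

theorem m22_33 (x : Spor.M22) : orderOf x ≠ 33 := by
  intro h
  have := H921.M22.Facts.odd (g := x) (by rw [h]; norm_num)
  omega

theorem order_eq_of_selfcent {X : Type*} [Group X] [Finite X] {r : ℕ} (hr : r.Prime) (h2 : ¬ r ^ 2 ∣ Nat.card X)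
    (hR : ∃ R : Subgroup X, Nat.card R = r ∧ centralizer (R : Set X) = R) {g : X} (hg : r ∣ orderOf g) :
    orderOf g = r := by
  obtain ⟨R, hR, hC⟩ := hR
  obtain ⟨k, hk⟩ := hg
  have ho := orderOf_pos g
  have hk0 : k ≠ 0 := by
    rintro rfl
    omega
  have h5 : orderOf (g ^ k) = r := by
    rw [orderOf_pow' _ hk0, hk, Nat.gcd_eq_right (Nat.dvd_mul_left _ _), Nat.mul_div_cancel _ (Nat.pos_of_ne_zero hk0)]
  obtain ⟨u, hu⟩ := H843.Syl.exists_conj hr h2 R (zpowers (g ^ k)) hR (by rw [Nat.card_zpowers, h5])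
  have h6 : u⁻¹ * g * u ∈ R := by
    rw [← SetLike.mem_coe, ← hC, SetLike.mem_coe, mem_centralizer_iff]
    intro y hy
    have h7 : u * y * u⁻¹ ∈ zpowers (g ^ k) := by
      rw [← hu]
      exact ⟨y, hy, by simp⟩
    obtain ⟨j, hj⟩ := mem_zpowers_iff.1 h7
    have h8 : g * (u * y * u⁻¹) = (u * y * u⁻¹) * g := by
      rw [← hj]
      exact (((Commute.refl g).pow_right k).zpow_right j).eq
    calc y * (u⁻¹ * g * u) = u⁻¹ * ((u * y * u⁻¹) * g) * u := by group
      _ = u⁻¹ * (g * (u * y * u⁻¹)) * u := by rw [h8]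
      _ = u⁻¹ * g * u * y := by group
  have h9 : orderOf (u⁻¹ * g * u) ∣ r := by
    rw [← hR]
    exact Subgroup.orderOf_dvd_natCard _ h6
  have h10 : orderOf (u⁻¹ * g * u) = orderOf g := by
    have := orderOf_injective (MulAut.conj u⁻¹).toMonoidHom (MulAut.conj u⁻¹).injective g
    rw [← this]
    simp
  rw [h10] at h9
  rcases (Nat.dvd_prime hr).1 h9 with h | h
  · exfalso
    have h1 : r ∣ 1 := by rw [← h, hk]; exact dvd_mul_right _ _
    exact hr.one_lt.ne' (Nat.dvd_one.1 h1)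
  · exact h

theorem oddInn_m22 : BpSpor.Inn.OddInn Spor.M22 := by
  refine BpSpor.Inn.of_pow fun φ => ?_
  obtain ⟨d, hd, hφ⟩ := J4Type.Aut22.exists_conj φ
  have hsq : d * d ∈ Spor.M22 := by
    obtain ⟨hM, h⟩ := (J4Type.Aut22.mem_D22_iff d).1 hd
    refine (SporadicA.MathieuRecog.mem_M22_iff _).2 ⟨M24.mul_mem hM hM, ?_⟩
    rcases h with h | h
    · exact ⟨by rw [Equiv.Perm.mul_apply, h.1, h.1], by rw [Equiv.Perm.mul_apply, h.2, h.2]⟩
    · exact ⟨by rw [Equiv.Perm.mul_apply, h.1, h.2], by rw [Equiv.Perm.mul_apply, h.2, h.1]⟩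
  refine ⟨⟨d * d, hsq⟩, ?_⟩
  ext1 x
  apply Subtype.ext
  show d * d * (x : Equiv.Perm GolayPt) * (d * d)⁻¹ = (((φ ^ 2) x : ↥Spor.M22) : Equiv.Perm GolayPt)
  rw [pow_two, MulAut.mul_apply, hφ, hφ]
  group

/-! ### the main lemma -/

theorem order_equiv {X Y : Type*} [Group X] [Group Y] (e : X ≃* Y) {n : ℕ} (h : ∀ y : Y, orderOf y ≠ n) (x : X) :
    orderOf x ≠ n := by
  rw [← MulEquiv.orderOf_eq e x]
  exact h _

/-- no elements of order 33 -/
theorem kill (OT : OrderTable.{0}) (hS : ∀ (X : Type) [Group X] [Finite X] [IsSimpleGroup X], IsKnownSimple' X)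
    {G : Type} [Group G] [Finite G] (hd : Nat.card G ∣ 1471492915200) {L : Subgroup G} (hLn : L.Normal)
    (hs : IsSimpleGroup L) (hna : ¬ IsMulCommutative L) (hC : centralizer (L : Set G) = ⊥) (h7 : 7 ∣ Nat.card L)
    (h11 : 11 ∣ Nat.card L) (g : G) : orderOf g ≠ 33 := by
  intro hg
  have hdL : Nat.card L ∣ 1471492915200 := (card_subgroup_dvd_card L).trans hd
  have h77 : Nat.card L % 77 = 0 := by
    have h1 : 7 * 11 ∣ Nat.card L := Nat.Coprime.mul_dvd_of_dvd_of_dvd (by norm_num) h7 h11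
    exact Nat.mod_eq_zero_of_dvd h1
  obtain ⟨n, hn, hreal, hcard⟩ := exists_good OT (S := L) (hS L) (fun h => hna ⟨⟨h⟩⟩)
    (l := [(2, 20), (3, 6), (5, 2), (7, 1), (11, 1)]) (N := 1471492915200) (by decide +kernel) hdL
  have hx : g ^ 3 ∈ L := by
    refine mem_of_index (p := 11) (by norm_num) (not_dvd_index (a := 1) (by rwa [pow_one]) fun h => ?_) ?_
    · exact absurd (h.trans hd) (by norm_num)
    · rw [orderOf_pow_of_dvd (by norm_num) (by rw [hg]; norm_num), hg]
  have hc3 : orderOf (g ^ 11) = 3 := by rw [orderOf_pow_of_dvd (by norm_num) (by rw [hg]; norm_num), hg]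
  suffices h : g ^ 11 ∈ L ∧ ∀ y : L, orderOf y ≠ 33 by
    have h1 : g ∈ L := by
      have h2 : g = (g ^ 3) ^ 4 * (g ^ 11) ^ 2 := by
        rw [← pow_mul, ← pow_mul, ← pow_add, show 3 * 4 + 11 * 2 = 33 + 1 by norm_num, pow_succ, ← hg,
          pow_orderOf_eq_one, one_mul]
      rw [h2]
      exact L.mul_mem (L.pow_mem hx _) (L.pow_mem h.1 _)
    exact h.2 ⟨g, h1⟩ (by rw [Subgroup.orderOf_mk, hg])
  have hj : ((cands [(2, 20), (3, 6), (5, 2), (7, 1), (11, 1)] 1471492915200).filter fun g => ordN g % 77 == 0).all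
      (fun g => match g with
        | .alt n => n == 11 || n == 12
        | .psu n q => n == 6 && q == 2 && ordN (.psu 6 2) == 9196830720
        | .m22 => true
        | _ => false) = true := by decide +kernel
  rw [List.all_eq_true] at hj
  have hj' := hj n (List.mem_filter.2 ⟨hn, by rw [← hcard, h77]; rfl⟩)
  cases n with
  | alt n =>
    have hn : n = 11 ∨ n = 12 := by
      have : (n == 11 || n == 12) = true := hj'
      simpa using this
    obtain ⟨e⟩ := hreal
    rcases hn with rfl | rfl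
    · exact ⟨mem_of_autInner hC (by norm_num) ((autInner_alt (by norm_num) (by norm_num) (by norm_num)).congr e.symm)
        hc3, order_equiv e alt11⟩
    · exact ⟨mem_of_autInner hC (by norm_num) ((autInner_alt (by norm_num) (by norm_num) (by norm_num)).congr e.symm)
        hc3, order_equiv e alt12⟩
  | psu n q =>
    have hmq : (n == 6 && q == 2 && ordN (.psu 6 2) == 9196830720) = true := hj'
    rw [Bool.and_eq_true, Bool.and_eq_true, beq_iff_eq, beq_iff_eq] at hmq
    obtain ⟨⟨rfl, rfl⟩, h6⟩ := hmq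
    rw [beq_iff_eq] at h6
    rw [h6] at hcard
    obtain ⟨F, _, _, hF, ⟨e⟩⟩ := hreal
    refine ⟨mem_of_index (p := 3) (by norm_num) (not_dvd_index (a := 6) (by rw [hcard]; norm_num) fun h => ?_) hc3,
      order_equiv e fun y hy => ?_⟩
    · exact absurd (h.trans hd) (by norm_num)
    · have hc' : Nat.card (PSU 6 F 2) = 9196830720 := by rw [← hcard]; exact (Nat.card_congr e.toEquiv).symm
      have : Finite (PSU 6 F 2) := Nat.finite_of_card_ne_zero (by rw [hc']; norm_num)
      have h1 := order_eq_of_selfcent (X := PSU 6 F 2) (r := 11) (by norm_num) (by rw [hc']; norm_num)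
        (H809.SelfCent.psu_selfcent 6 2 11 (by decide) F hF) (g := y) (by rw [hy]; norm_num)
      omega
  | m22 =>
    obtain ⟨e⟩ := hreal
    exact ⟨mem_of_autInner hC (by norm_num) ((oddInn_m22 3 (by norm_num) (by norm_num)).congr e.symm) hc3,
      order_equiv e m22_33⟩
  | _ => exact absurd hj' Bool.false_ne_true

end Cfsg.Agent.H788.Der.Ten
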