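import Cfsg.Agent.H788.Der.TenGrp
import Cfsg.Agent.H320.Der.Pair
import Cfsg.Agent.H884.ElFin
import Cfsg.Agent.S0294

/-!
# Three classes of derangements for `PΩ⁻_10(2)` (helper788, S3502)

* `no33` : a subgroup of order divisible by 77 and not by 17 has no elements of order 33
* `three_o10m2` : `Three` from `PGap`
-/

set_option autoImplicit false

namespace Cfsg.Agent.H788.Der.Ten

open Cfsg Subgroup Cfsg.Agent.OrdDiv Cfsg.Agent.H439.Der Cfsg.Agent.H320.Der Cfsg.Agent.H72.AdjOrth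
  Cfsg.Agent.LieClassical.OrthCore Cfsg.Agent.LieClassical.OmegaReindex Cfsg.Agent.H884.El Cfsg.Agent.H955
  Cfsg.Agent.H377
open Cfsg.Agent.H188.Der (exists_factor exists_cent not_dvd_core)
open Cfsg.Agent.H938.Sax (PGap)

/-- `3` divides the order of `L` -/
theorem three_dvd (OT : OrderTable.{0}) (hS : ∀ (X : Type) [Group X] [Finite X] [IsSimpleGroup X], IsKnownSimple' X)
    {L : Type} [Group L] [Finite L] (hs : IsSimpleGroup L) (hna : ¬ IsMulCommutative L)
    (hd : Nat.card L ∣ 1471492915200) (h7 : 7 ∣ Nat.card L) (h11 : 11 ∣ Nat.card L) : 3 ∣ Nat.card L := by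
  have h77 : Nat.card L % 77 = 0 := by
    have h1 : 7 * 11 ∣ Nat.card L := Nat.Coprime.mul_dvd_of_dvd_of_dvd (by norm_num) h7 h11
    exact Nat.mod_eq_zero_of_dvd h1
  obtain ⟨n, hn, -, hcard⟩ := exists_good OT (S := L) (hS L) (fun h => hna ⟨⟨h⟩⟩)
    (l := [(2, 20), (3, 6), (5, 2), (7, 1), (11, 1)]) (N := 1471492915200) (by decide +kernel) hd
  have hj : ((cands [(2, 20), (3, 6), (5, 2), (7, 1), (11, 1)] 1471492915200).filter fun g => ordN g % 77 == 0).all
      (fun g => ordN g % 3 == 0) = true := by decide +kernel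
  rw [List.all_eq_true] at hj
  have hj' := hj n (List.mem_filter.2 ⟨hn, by rw [← hcard, h77]; rfl⟩)
  rw [← hcard, beq_iff_eq] at hj'
  exact Nat.dvd_of_mod_eq_zero hj'

theorem hnum3 : ∀ k ≤ 5, ∀ j ≤ k, 3 ^ k ≡ 3 ^ j [MOD 7] → j = k := by
  intro k hk
  interval_cases k <;> intro j hj <;> interval_cases j <;> decide

section abs

variable {F : Type} [Field F] [Fintype F] {V : Type} [AddCommGroup V] [Module F V] [FiniteDimensional F V]
  {Q : QuadraticForm F V} {T : Type} [Group T] [Finite T] {ρ : T →* Module.End F V}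

/-- no elements of order 33 -/
theorem no33 (OT : OrderTable.{0}) (hS : ∀ (X : Type) [Group X] [Finite X] [IsSimpleGroup X], IsKnownSimple' X)
    (hρ : Rep Q T ρ) (hcT : Nat.card T = 25015379558400) {M : Subgroup T} (h7 : 7 ∣ Nat.card M)
    (h11 : 11 ∣ Nat.card M) (h17 : ¬ 17 ∣ Nat.card M) (g : M) : orderOf g ≠ 33 := by
  intro hg
  have hno : ∀ x : M, orderOf x ≠ 11 * 7 := fun x hx => hρ.no_77 (x : T) (by rw [Subgroup.orderOf_coe, hx])
  have hdM : Nat.card M ∣ 25015379558400 := hcT ▸ card_subgroup_dvd_card M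
  have h49 : ¬ 7 ^ 2 ∣ Nat.card M := fun h => absurd (h.trans hdM) (by norm_num)
  have h121 : ¬ 11 ^ 2 ∣ Nat.card M := fun h => absurd (h.trans hdM) (by norm_num)
  obtain ⟨K, hKn, hpK, hrK, L, hLn, hpL, hsL, hnaL, hCL⟩ := exists_factor (R := M) (p := 11) (r := 7) (by norm_num)
    (by norm_num) (by norm_num) h11 h121 h7 h49 (by norm_num) (by norm_num) hno
  have hcQ := Subgroup.card_eq_card_quotient_mul_card_subgroup K
  have hdQ : Nat.card (M ⧸ K) ∣ Nat.card M := by rw [hcQ]; exact dvd_mul_right _ _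
  have h7Q : 7 ∣ Nat.card (M ⧸ K) := by
    rw [hcQ] at h7
    exact ((Nat.Prime.dvd_mul (by norm_num)).1 h7).resolve_right hrK
  have hnoQ : ∀ x : M ⧸ K, orderOf x ≠ 7 * 11 := by
    intro x hx
    obtain ⟨y, rfl⟩ := QuotientGroup.mk'_surjective K x
    have h1 : 7 * 11 ∣ orderOf y := by
      rw [← hx]
      exact orderOf_map_dvd _ y
    refine hno (y ^ (orderOf y / 77)) ?_
    exact orderOf_pow_orderOf_div (orderOf_pos y).ne' h1
  have h7L : 7 ∣ Nat.card L := by
    by_contra h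
    exact not_dvd_core (R := M ⧸ K) (p := 7) (r := 11) (by norm_num) (by norm_num) (by norm_num) h7Q
      (fun h1 => h121 (h1.trans hdQ)) (by norm_num) hnoQ hLn h hpL
  have hdQ17 : Nat.card (M ⧸ K) ∣ 1471492915200 := by
    have h1 : Nat.card (M ⧸ K) ∣ 17 * 1471492915200 := hdQ.trans hdM
    refine Nat.Coprime.dvd_of_dvd_mul_left ?_ h1
    exact ((Nat.Prime.coprime_iff_not_dvd (by norm_num)).2 fun h => h17 (h.trans hdQ)).symm
  have hdL : Nat.card L ∣ Nat.card (M ⧸ K) := card_subgroup_dvd_card L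
  have h3L := three_dvd OT hS (L := L) hsL hnaL (hdL.trans hdQ17) h7L hpL
  have h3K : ¬ 3 ^ (5 + 1) ∣ Nat.card K := by
    intro h
    have h1 : 3 ^ 1 * 3 ^ (5 + 1) ∣ Nat.card M := by
      rw [hcQ]
      exact Nat.mul_dvd_mul (by rw [pow_one]; exact h3L.trans hdL) h
    exact absurd (h1.trans hdM) (by norm_num)
  have hx : orderOf (g ^ 3) = 11 := by rw [orderOf_pow_of_dvd (by norm_num) (by rw [hg]; norm_num), hg]
  have hc : orderOf (g ^ 11) = 3 := by rw [orderOf_pow_of_dvd (by norm_num) (by rw [hg]; norm_num), hg]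
  have hcK : g ^ 11 ∉ K := by
    intro h
    obtain ⟨s, hs, hcom⟩ := exists_cent (R := M) (p := 7) (t := 3) (N := 5) (by norm_num) (by norm_num) h7 hKn hrK h3K
      hnum3 h (n := 1) (by rw [pow_one, ← hc, pow_orderOf_eq_one])
    refine hρ.no_comm (x := ((g ^ 3 : M) : T)) (c := ((g ^ 11 : M) : T)) (s := (s : T)) (by rw [Subgroup.orderOf_coe, hx])
      (by rw [Subgroup.orderOf_coe, hc]) (by rw [Subgroup.orderOf_coe, hs]) ?_ ?_
    · have h1 : Commute (g ^ 3) (g ^ 11) := (Commute.refl g).pow_pow 3 11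
      exact congrArg Subtype.val h1.eq
    · exact congrArg Subtype.val hcom.eq
  have hxK : g ^ 3 ∉ K := by
    intro h
    apply hpK
    rw [← hx]
    exact Subgroup.orderOf_dvd_natCard K h
  refine kill OT hS (G := M ⧸ K) hdQ17 hLn hsL hnaL hCL h7L hpL (QuotientGroup.mk' K g) ?_
  have h1 : orderOf (QuotientGroup.mk' K g) ∣ 33 := by rw [← hg]; exact orderOf_map_dvd _ g
  have h2 : ¬ orderOf (QuotientGroup.mk' K g) ∣ 3 := by
    intro h
    have h3 := orderOf_dvd_iff_pow_eq_one.1 h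
    rw [← map_pow] at h3
    exact hxK ((QuotientGroup.eq_one_iff _).1 h3)
  have h4 : ¬ orderOf (QuotientGroup.mk' K g) ∣ 11 := by
    intro h
    have h3 := orderOf_dvd_iff_pow_eq_one.1 h
    rw [← map_pow] at h3
    exact hcK ((QuotientGroup.eq_one_iff _).1 h3)
  have h5 : orderOf (QuotientGroup.mk' K g) ∈ Nat.divisors 33 := Nat.mem_divisors.2 ⟨h1, by norm_num⟩
  rw [show Nat.divisors 33 = {1, 3, 11, 33} by decide] at h5
  simp only [Finset.mem_insert, Finset.mem_singleton] at h5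
  rcases h5 with h | h | h | h
  · rw [h] at h2
    exact absurd (one_dvd 3) h2
  · rw [h] at h2
    exact absurd dvd_rfl h2
  · rw [h] at h4
    exact absurd dvd_rfl h4
  · exact h

end abs

section row

variable {F : Type} [Field F] [Fintype F] {a b : F}

theorem card_T (hF : Fintype.card F = 2) (hab : ∀ z₁ z₂ : F, z₁ ^ 2 + a * z₁ * z₂ + b * z₂ ^ 2 = 0 → z₁ = 0 ∧ z₂ = 0) :
    Nat.card (POmega F (quadFormMinus 4 F a b)) = 25015379558400 := by
  have h := S0294.result (F := F) hF 5 (by norm_num) a b hab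
  norm_num [Finset.prod_range_succ] at h
  exact h

theorem exists_rep_T (hF : Fintype.card F = 2)
    (hab : ∀ z₁ z₂ : F, z₁ ^ 2 + a * z₁ * z₂ + b * z₂ ^ 2 = 0 → z₁ = 0 ∧ z₂ = 0) :
    ∃ ρ : POmega F (quadFormMinus 4 F a b) →* Module.End F ((Fin 4 ⊕ Fin 4) ⊕ Fin 2 → F),
      Rep (quadMinus 4 F a b) (POmega F (quadFormMinus 4 F a b)) ρ := by
  rw [← coe_quadMinus]
  have hD := data_minus (F := F) (m := 5) (by norm_num) hab
  have h2 : (2 : F) = 0 := by
    have h1 : ((Fintype.card F : ℕ) : F) = 0 := Nat.cast_card_eq_zero F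
    rw [hF] at h1
    exact_mod_cast h1
  obtain ⟨ρ, h3, h4⟩ := exists_rep (Q := quadMinus 4 F a b)
    (Cfsg.Agent.LieClassical.OrthCenter.center_omega_eq_bot_char_two h2 hD.nd hD.dim hD.iso)
  exact ⟨ρ, hF, nondeg_iff.2 (quadMinus_nondegenerate hab), by
    rw [Module.finrank_fintype_fun_eq_card]
    exact card_minus (m := 5) (by norm_num), h3, h4⟩

/-- **`Three` from `PGap`** -/
theorem three_o10m2 (OT : OrderTable.{0}) (hS : ∀ (X : Type) [Group X] [Finite X] [IsSimpleGroup X], IsKnownSimple' X)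
    (hF : Fintype.card F = 2) (hab : ∀ z₁ z₂ : F, z₁ ^ 2 + a * z₁ * z₂ + b * z₂ ^ 2 = 0 → z₁ = 0 ∧ z₂ = 0)
    {M : Subgroup (POmega F (quadFormMinus 4 F a b))} (hM : PGap (POmega F (quadFormMinus 4 F a b)) M) :
    Three (POmega F (quadFormMinus 4 F a b)) M := by
  have hq : Nat.card F = 2 := by rw [Nat.card_eq_fintype_card, hF]
  have hcT := card_T hF hab
  have hfin : Finite (POmega F (quadFormMinus 4 F a b)) := Nat.finite_of_card_ne_zero (by rw [hcT]; norm_num)
  have G : Gp F 5 (-1) 1 (POmega F (quadFormMinus 4 F a b)) := gp_minus_all (m := 5) (by norm_num) hab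
  have hth : ∀ v : ℕ, v.Prime → v ∣ Nat.card (POmega F (quadFormMinus 4 F a b)) → v ≠ 17 →
      Th (POmega F (quadFormMinus 4 F a b)) v := by
    intro v hv hd hv17
    refine th_one G (by omega) hv hd ?_ (by omega)
    rintro ⟨-, hv2, h3, h4⟩
    have hη : eta (ee (Nat.card F) v) = 4 := by omega
    apply hv17
    rw [hq] at hη
    rcases ee_unique hη (by norm_num) with ⟨-, h⟩ | ⟨ho, h⟩
    · exact odd_prime_17 hv (ee_eq_dvd (by norm_num) h) h
    · rw [h] at ho
      exact absurd ho (by decide)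
  have hmiss : ∀ v : ℕ, v.Prime → v ∣ Nat.card (POmega F (quadFormMinus 4 F a b)) → v ≠ 17 → ¬ v ∣ Nat.card M →
      Three (POmega F (quadFormMinus 4 F a b)) M := by
    intro v hv hd hv17 hvM
    have : Fact v.Prime := ⟨hv⟩
    obtain ⟨x, hx⟩ := exists_prime_orderOf_dvd_card' v hd
    exact Three.of_not_dvd hvM (hth v hv hd hv17).not_SCC ⟨x, by rw [hx]⟩
  obtain ⟨v, hv, hvT, hvM⟩ := hM
  by_cases hv17 : v = 17
  swap
  · exact hmiss v hv hvT hv17 hvM
  subst hv17
  by_cases h7 : 7 ∣ Nat.card M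
  swap
  · exact hmiss 7 (by norm_num) (by rw [hcT]; norm_num) (by norm_num) h7
  by_cases h11 : 11 ∣ Nat.card M
  swap
  · exact hmiss 11 (by norm_num) (by rw [hcT]; norm_num) (by norm_num) h11
  have hf : Nat.card (F ≃+* F) = 1 :=
    Cfsg.Agent.Lib.FieldAutCard.card_ringAut (p := 2) (f := 1) le_rfl (by rw [hF, pow_one])
  have h6 : Tw (POmega F (quadFormMinus 4 F a b)) 17 := G.two (k := 4) (ε := -1) (by norm_num)
    (Or.inl (by norm_num)) (Or.inr rfl) (by decide) (by norm_num)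
    (eltS_minus (by norm_num) (by decide) (by rw [hq]; norm_num)) (by
      rw [hf, Nat.totient_prime (by norm_num)]
      norm_num)
  have h33 : ∃ x : POmega F (quadFormMinus 4 F a b), orderOf x = 33 :=
    G.of_odd (by decide) (elt_tor_minus (F := F) (k := 5) (N := 33) (by norm_num) (by rw [hq]; norm_num))
  refine Tw.three h6 (fun x hx ho => hvM ?_) h33 (fun x hx ho => ?_) (by norm_num)
  · rw [← ho]
    exact Subgroup.orderOf_dvd_natCard M hx
  · obtain ⟨ρ, hρ⟩ := exists_rep_T hF hab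
    exact no33 OT hS hρ hcT h7 h11 hvM ⟨x, hx⟩ (by rw [Subgroup.orderOf_mk, ho])

end row

end Cfsg.Agent.H788.Der.Ten
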